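import Cfsg.Agent.H58.Amalgam43.Facts
import Cfsg.Agent.H36.Amalgam43.Defs

/-!
# The centraliser of the central involution: the elementary group of order nine
-/

set_option autoImplicit false
set_option linter.unusedSectionVars false

namespace H58.Amalgam43

open H87.U43
open H36.Amalgam43 (CentCfg)

variable {G : Type*} [Group G] [Finite G] {σ a w : G} {L : SL2 →* G}

/-- The second generator. -/
abbrev aw (a w : G) : G := w * a * w

variable (C : CentCfg σ a w L)
include C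

theorem w_inv : w⁻¹ = w := inv_eq_of_mul_eq_one_left C.w_sq

theorem w_aw : w * aw a w * w = a := by
  show w * (w * a * w) * w = a
  rw [show w * (w * a * w) * w = w * w * a * (w * w) by group, C.w_sq, one_mul, mul_one]

theorem σ_sq : σ * σ = 1 := by rw [← C.L_sZ, ← map_mul, sZ_facts.1, map_one]

theorem σ_ne : σ ≠ 1 := fun h =>
  sZ_facts.2.1 (C.L_inj ((C.L_sZ.trans h).trans (map_one L).symm))

theorem L_σ (x : SL2) : L x * σ = σ * L x := by rw [← C.L_sZ, ← map_mul, ← map_mul, sZ_comm]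

theorem aw_cube : aw a w ^ 3 = 1 := by
  rw [pow_three, show aw a w * (aw a w * aw a w) = w * (a * (w * w) * a * (w * w) * a) * w by
    show w * a * w * (w * a * w * (w * a * w)) = _; group, C.w_sq, mul_one, mul_one]
  rw [show a * a * a = a ^ 3 by rw [pow_three, mul_assoc], C.a_cube, mul_one, C.w_sq]

theorem exists_x₀ : ∃ x : SL2, L x = aw a w ∧ x ^ 3 = 1 ∧ x ≠ 1 := by
  obtain ⟨x, hx⟩ := C.L_mem
  refine ⟨x, hx, C.L_inj (by rw [map_pow, hx, aw_cube C, map_one]), ?_⟩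
  rintro rfl
  rw [map_one] at hx
  have h := w_aw C
  rw [show aw a w = 1 from hx.symm, mul_one, C.w_sq] at h
  exact C.a_ne h.symm

theorem a_σ : a * σ = σ * a := by
  obtain ⟨x, hx, -⟩ := exists_x₀ C
  rw [← w_aw C, ← hx]
  calc w * L x * w * σ = w * L x * (w * σ) := by group
    _ = w * (L x * σ) * w := by rw [C.w_σ]; group
    _ = w * σ * L x * w := by rw [L_σ C]; group
    _ = σ * (w * L x * w) := by rw [C.w_σ]; group

theorem L_w_comm (x : SL2) : w * L x * w * aw a w = aw a w * (w * L x * w) := by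
  show w * L x * w * (w * a * w) = w * a * w * (w * L x * w)
  rw [show w * L x * w * (w * a * w) = w * L x * (w * w) * a * w by group,
    show w * a * w * (w * L x * w) = w * a * (w * w) * L x * w by group, C.w_sq, mul_one, mul_one,
    mul_assoc w (L x) a, C.L_cent, ← mul_assoc]

theorem orderOf_a : orderOf a = 3 :=
  haveI : Fact (Nat.Prime 3) := ⟨Nat.prime_three⟩
  orderOf_eq_prime C.a_cube C.a_ne

theorem a_pow_eq_one {i : ℕ} : a ^ i = 1 ↔ 3 ∣ i := by
  rw [← orderOf_dvd_iff_pow_eq_one, orderOf_a C]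

theorem a_notMem (x : SL2) : L x ≠ a := by
  intro h
  have hx : x ^ 3 = 1 := C.L_inj (by rw [map_pow, h, C.a_cube, map_one])
  have hc : ∀ y : SL2, y * x = x * y := fun y => C.L_inj (by rw [map_mul, map_mul, h, C.L_cent])
  rcases sl_center x (hc sX).symm (hc sJ).symm with rfl | rfl
  · exact C.a_ne (by rw [← h, map_one])
  · rw [pow_three, sZ_facts.1, mul_one] at hx
    exact sZ_facts.2.1 hx

theorem a_pow_eq_L {i : ℕ} {x : SL2} (h : a ^ i = L x) : a ^ i = 1 ∧ x = 1 := by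
  have hi : a ^ i = 1 := by
    rw [a_pow_eq_one C]
    by_contra hi
    have h2 : a ^ (i * i) = a := by
      rw [← pow_mod_orderOf, orderOf_a C, show i * i % 3 = 1 by
        rw [Nat.mul_mod]; rcases (show i % 3 = 1 ∨ i % 3 = 2 by omega) with h' | h' <;> rw [h'],
        pow_one]
    exact a_notMem C (x ^ i) (by rw [map_pow, ← h, ← pow_mul, h2])
  exact ⟨hi, C.L_inj (by rw [← h, hi, map_one])⟩

theorem pair_mul (i j k l : ℕ) :
    a ^ i * aw a w ^ j * (a ^ k * aw a w ^ l) = a ^ (i + k) * aw a w ^ (j + l) := by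
  have h : Commute (aw a w ^ j) (a ^ k) := (Commute.pow_pow C.a_comm k j).symm
  rw [pow_add, pow_add, mul_assoc, ← mul_assoc (aw a w ^ j), h.eq]
  group

theorem aw_pow_eq_one {j : ℕ} : aw a w ^ j = 1 ↔ 3 ∣ j := by
  haveI : Fact (Nat.Prime 3) := ⟨Nat.prime_three⟩
  have h : orderOf (aw a w) = 3 := by
    refine orderOf_eq_prime (aw_cube C) fun h1 => C.a_ne ?_
    rw [← w_aw C, h1, mul_one, C.w_sq]
  rw [← orderOf_dvd_iff_pow_eq_one, h]

theorem pair_eq_one {i j : ℕ} (h : a ^ i * aw a w ^ j = 1) : 3 ∣ i ∧ 3 ∣ j := by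
  obtain ⟨x, hx, -, -⟩ := exists_x₀ C
  have h1 : a ^ i = L (x ^ j)⁻¹ := by
    rw [map_inv, map_pow, hx]
    exact eq_inv_of_mul_eq_one_left h
  have h2 := (a_pow_eq_L C h1).1
  rw [h2, one_mul] at h
  exact ⟨(a_pow_eq_one C).1 h2, (aw_pow_eq_one C).1 h⟩

/-- The elementary group of order nine. -/
def E : Subgroup G where
  carrier := {g | ∃ i j : ℕ, g = a ^ i * aw a w ^ j}
  one_mem' := ⟨0, 0, by simp⟩
  mul_mem' := by
    rintro _ _ ⟨i, j, rfl⟩ ⟨i', j', rfl⟩
    exact ⟨i + i', j + j', pair_mul C i j i' j'⟩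
  inv_mem' := by
    rintro _ ⟨i, j, rfl⟩
    refine ⟨2 * i, 2 * j, ?_⟩
    apply inv_eq_of_mul_eq_one_right
    rw [pair_mul C, show i + 2 * i = 3 * i by ring, show j + 2 * j = 3 * j by ring,
      pow_mul, pow_mul, C.a_cube, aw_cube C, one_pow, one_pow, mul_one]

theorem a_mem : a ∈ E C := ⟨1, 0, by simp⟩

theorem aw_mem : aw a w ∈ E C := ⟨0, 1, by simp⟩

theorem E_comm {e f : G} (he : e ∈ E C) (hf : f ∈ E C) : e * f = f * e := by
  obtain ⟨i, j, rfl⟩ := he
  obtain ⟨k, l, rfl⟩ := hf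
  have h1 : Commute (a ^ i) (aw a w ^ l) := Commute.pow_pow C.a_comm _ _
  have h2 : Commute (aw a w ^ j) (a ^ k) := (Commute.pow_pow C.a_comm k j).symm
  exact (((Commute.pow_pow_self a i k).mul_right h1).mul_left
    (h2.mul_right (Commute.pow_pow_self (aw a w) j l))).eq

theorem E_cube {e : G} (he : e ∈ E C) : e ^ 3 = 1 := by
  obtain ⟨i, j, rfl⟩ := he
  rw [(show Commute (a ^ i) (aw a w ^ j) from Commute.pow_pow C.a_comm i j).mul_pow, ← pow_mul,
    ← pow_mul, mul_comm i, mul_comm j, pow_mul, pow_mul, C.a_cube, aw_cube C, one_pow, one_pow,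
    one_mul]

theorem mem_E {e : G} (he : e ∈ E C) : ∃ i j : Fin 3, e = a ^ i.val * aw a w ^ j.val := by
  obtain ⟨i, j, rfl⟩ := he
  refine ⟨⟨i % 3, by omega⟩, ⟨j % 3, by omega⟩, ?_⟩
  rw [pow_mod_eq i C.a_cube, pow_mod_eq j (aw_cube C)]
where
  pow_mod_eq {x : G} (i : ℕ) (hx : x ^ 3 = 1) : x ^ (i % 3) = x ^ i := by
    conv_rhs => rw [← Nat.div_add_mod i 3, pow_add, pow_mul, hx, one_pow, one_mul]

theorem card_E : Nat.card (E C) = 9 := by
  let f : Fin 3 × Fin 3 → E C := fun p => ⟨a ^ p.1.val * aw a w ^ p.2.val, p.1.val, p.2.val, rfl⟩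
  rw [← Nat.card_eq_of_bijective f ⟨?_, ?_⟩, Nat.card_prod, Nat.card_eq_fintype_card, Fintype.card_fin]
  · rintro ⟨i, j⟩ ⟨k, l⟩ h
    have h' : a ^ i.val * aw a w ^ j.val = a ^ k.val * aw a w ^ l.val := congrArg Subtype.val h
    have h3 := congrArg (fun g => g * (a ^ (2 * k.val) * aw a w ^ (2 * l.val))) h'
    simp only [pair_mul C] at h3
    rw [show k.val + 2 * k.val = 3 * k.val by ring, show l.val + 2 * l.val = 3 * l.val by ring,
      pow_mul a, pow_mul (aw a w), C.a_cube, aw_cube C, one_pow, one_pow, mul_one] at h3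
    obtain ⟨h4, h5⟩ := pair_eq_one C h3
    refine Prod.ext (Fin.ext ?_) (Fin.ext ?_) <;> dsimp only <;> omega
  · rintro ⟨e, he⟩
    obtain ⟨i, j, rfl⟩ := mem_E C he
    exact ⟨(i, j), rfl⟩

theorem E_isMulCommutative : IsMulCommutative (E C) :=
  ⟨⟨fun e f => Subtype.ext (E_comm C e.2 f.2)⟩⟩

theorem E_not_cyclic : ¬ IsCyclic (E C) := by
  intro h
  obtain ⟨g, hg⟩ := IsCyclic.exists_ofOrder_eq_natCard (α := E C)
  have h3 : orderOf g ∣ 3 := orderOf_dvd_of_pow_eq_one (Subtype.ext (by simpa using E_cube C g.2))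
  rw [hg, card_E C] at h3
  norm_num at h3

theorem w_E {e : G} (he : e ∈ E C) : w * e * w⁻¹ ∈ E C := by
  obtain ⟨i, j, rfl⟩ := he
  refine ⟨j, i, ?_⟩
  rw [← conj_mul, ← conj_pow, ← conj_pow, w_inv C, w_aw C]
  exact (Commute.pow_pow C.a_comm j i).eq.symm

/-- The centraliser of an involution. -/
abbrev cX (σ : G) : Subgroup G := Subgroup.centralizer ({σ} : Set G)

omit C in
theorem mem_cX {g : G} : g ∈ cX σ ↔ g * σ = σ * g := Subgroup.mem_centralizer_singleton_iff

theorem σ_mem : σ ∈ cX σ := mem_cX.2 rfl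

theorem w_mem : w ∈ cX σ := mem_cX.2 C.w_σ

theorem L_mem_X (x : SL2) : L x ∈ cX σ := mem_cX.2 (L_σ C x)

theorem E_le : E C ≤ cX σ := by
  obtain ⟨x, hx, -⟩ := exists_x₀ C
  rintro _ ⟨i, j, rfl⟩
  exact mul_mem (pow_mem (mem_cX.2 (a_σ C)) i) (pow_mem (hx ▸ L_mem_X C x) j)

theorem σ_comm_E {e : G} (he : e ∈ E C) : e * σ = σ * e := mem_cX.1 (E_le C he)

omit C in
theorem commute_sq_iff {f g : G} (hf : f ^ 3 = 1) : g * f ^ 2 = f ^ 2 * g ↔ g * f = f * g := by
  refine ⟨fun h => ?_, fun h => (Commute.pow_right h 2).eq⟩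
  have h4 : f = (f ^ 2) ^ 2 := by
    rw [← pow_mul, show 2 * 2 = 3 + 1 by norm_num, pow_succ, hf, one_mul]
  rw [h4]
  exact (Commute.pow_right h 2).eq

theorem inv_aw : (aw a w)⁻¹ = aw a w ^ 2 :=
  inv_eq_of_mul_eq_one_right (by rw [← pow_succ', aw_cube C])

theorem c_mem : a * aw a w ∈ E C := mul_mem (a_mem C) (aw_mem C)

theorem d_mem : a * (aw a w)⁻¹ ∈ E C := mul_mem (a_mem C) (inv_mem (aw_mem C))

/-- Each nontrivial element has the centraliser of one of four. -/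
theorem E_cases {e : G} (he : e ∈ E C) (he1 : e ≠ 1) :
    ∃ f, (f = a ∨ f = aw a w ∨ f = a * (aw a w)⁻¹ ∨ f = a * aw a w) ∧
      ∀ g : G, g * e = e * g ↔ g * f = f * g := by
  have hc := E_cube C (c_mem C)
  have hd := E_cube C (d_mem C)
  have hcm : Commute a (aw a w) := C.a_comm
  obtain ⟨i, j, rfl⟩ := mem_E C he
  fin_cases i <;> fin_cases j <;> simp only [pow_zero, pow_one, one_mul, mul_one] at he1 ⊢
  · exact absurd rfl he1
  · exact ⟨aw a w, by simp, fun g => Iff.rfl⟩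
  · exact ⟨aw a w, by simp, fun g => commute_sq_iff (aw_cube C)⟩
  · exact ⟨a, by simp, fun g => Iff.rfl⟩
  · exact ⟨a * aw a w, by simp, fun g => Iff.rfl⟩
  · exact ⟨a * (aw a w)⁻¹, by simp, fun g => by rw [inv_aw C]⟩
  · exact ⟨a, by simp, fun g => commute_sq_iff C.a_cube⟩
  · refine ⟨a * (aw a w)⁻¹, by simp, fun g => ?_⟩
    rw [← commute_sq_iff hd, (Commute.inv_right hcm).mul_pow, inv_pow]
    rw [show (aw a w ^ 2)⁻¹ = aw a w by rw [← inv_aw C, inv_inv]]
  · refine ⟨a * aw a w, by simp, fun g => ?_⟩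
    rw [← commute_sq_iff hc, hcm.mul_pow]

theorem w_comm_a {g : G} (h : g * aw a w = aw a w * g) : w * g * w * a = a * (w * g * w) := by
  have h' : w * g * w⁻¹ * (w * aw a w * w⁻¹) = w * aw a w * w⁻¹ * (w * g * w⁻¹) := by
    rw [conj_mul, conj_mul, h]
  rwa [w_inv C, w_aw C] at h'

/-- An element of two-power order centralising `a` lies in the quaternion group. -/
theorem two_elt {g : G} (hg : g ∈ cX σ) (hga : g * a = a * g) {k : ℕ} (hk : g ^ 2 ^ k = 1) :
    ∃ x : SL2, x ^ 4 = 1 ∧ g = L x := by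
  obtain ⟨i, x, rfl⟩ := C.cent_a g (mem_cX.1 hg) hga
  have hc : Commute (a ^ i) (L x) := (show Commute a (L x) from (C.L_cent x).symm).pow_left i
  rw [hc.mul_pow, ← pow_mul, ← map_pow] at hk
  obtain ⟨h1, h2⟩ := a_pow_eq_L C (show a ^ (i * 2 ^ k) = L ((x ^ 2 ^ k)⁻¹) by
    rw [map_inv]; exact eq_inv_of_mul_eq_one_left hk)
  rw [inv_eq_one] at h2
  have hi : 3 ∣ i := (Nat.Coprime.dvd_of_dvd_mul_right (Nat.Coprime.pow_right k (by norm_num))
    ((a_pow_eq_one C).1 h1))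
  refine ⟨x, sl_two_elt x ?_, by rw [(a_pow_eq_one C).2 hi, one_mul]⟩
  rw [← orderOf_dvd_iff_pow_eq_one]
  have hx2 : orderOf x ∣ 2 ^ k := orderOf_dvd_of_pow_eq_one h2
  have hx24 : orderOf x ∣ 8 * 3 := orderOf_dvd_of_pow_eq_one (pow_card x)
  exact (Nat.Coprime.coprime_dvd_left hx2 (Nat.Coprime.pow_left k (by norm_num))).dvd_of_dvd_mul_right hx24

theorem no_big_a {q : ℕ} (hq : q.Prime) (h5 : 5 ≤ q) {g : G} (hg : g ∈ cX σ)
    (hga : g * a = a * g) {k : ℕ} (hk : g ^ q ^ k = 1) : g = 1 := by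
  obtain ⟨i, x, rfl⟩ := C.cent_a g (mem_cX.1 hg) hga
  have hcop : Nat.Coprime 24 (q ^ k) := by
    refine Nat.Coprime.pow_right k ?_
    refine ((Nat.Prime.coprime_iff_not_dvd hq).2 fun hd => ?_).symm
    have := Nat.le_of_dvd (by norm_num) hd
    interval_cases q <;> first | omega | norm_num at hq
  have hc : Commute (a ^ i) (L x) := (show Commute a (L x) from (C.L_cent x).symm).pow_left i
  have h24 : (a ^ i * L x) ^ 24 = 1 := by
    rw [hc.mul_pow, ← pow_mul, mul_comm i, show 24 * i = 3 * (8 * i) by ring, pow_mul, C.a_cube,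
      one_pow, ← map_pow, pow_card, map_one, one_mul]
  exact orderOf_eq_one_iff.1 (Nat.eq_one_of_dvd_coprimes hcop (orderOf_dvd_of_pow_eq_one h24)
    (orderOf_dvd_of_pow_eq_one hk))

theorem no_big_card {f : G} {n : ℕ} (hn : Nat.card (Subgroup.centralizer ({σ, f} : Set G)) = n)
    {q : ℕ} (hq : q.Prime) (hqn : ¬ q ∣ n) {g : G} (hg : g ∈ cX σ) (hgf : g * f = f * g)
    {k : ℕ} (hk : g ^ q ^ k = 1) : g = 1 := by
  have hmem : g ∈ Subgroup.centralizer ({σ, f} : Set G) := by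
    rw [Subgroup.mem_centralizer_iff]
    rintro h (rfl | rfl)
    · exact (mem_cX.1 hg).symm
    · exact hgf.symm
  exact orderOf_eq_one_iff.1 (Nat.eq_one_of_dvd_coprimes
    (Nat.Coprime.pow_right k ((Nat.Prime.coprime_iff_not_dvd hq).2 hqn).symm)
    (hn ▸ Subgroup.orderOf_dvd_natCard _ hmem) (orderOf_dvd_of_pow_eq_one hk))

/-- Centralisers of nontrivial elements of `E` have no large prime. -/
theorem no_big {q : ℕ} (hq : q.Prime) (h5 : 5 ≤ q) {e g : G} (he : e ∈ E C) (he1 : e ≠ 1)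
    (hg : g ∈ cX σ) (hge : g * e = e * g) {k : ℕ} (hk : g ^ q ^ k = 1) : g = 1 := by
  obtain ⟨f, hf, hiff⟩ := E_cases C he he1
  rw [hiff] at hge
  rcases hf with rfl | rfl | rfl | rfl
  · exact no_big_a C hq h5 hg hge hk
  · have h := no_big_a C hq h5 (mul_mem (mul_mem (w_mem C) hg) (w_mem C)) (w_comm_a C hge) (k := k)
      (by nth_rw 2 [← w_inv C]; rw [conj_pow, hk, mul_one, mul_inv_cancel])
    calc g = w * w * g * (w * w) := by rw [C.w_sq, one_mul, mul_one]
      _ = w * (w * g * w) * w := by group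
      _ = 1 := by rw [h, mul_one, C.w_sq]
  · refine no_big_card C C.card_d hq (fun hd => ?_) hg hge hk
    have := Nat.le_of_dvd (by norm_num) hd
    interval_cases q <;> first | omega | norm_num at hq
  · refine no_big_card C C.card_c hq (fun hd => ?_) hg hge hk
    have := Nat.le_of_dvd (by norm_num) hd
    interval_cases q <;> first | omega | norm_num at hq

/-- Conjugation by the normaliser of `E` fixes or swaps the generators. -/
theorem norm_gen {n : G} (hn : n ∈ cX σ) (hnE : ∀ e ∈ E C, n * e * n⁻¹ ∈ E C) :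
    n * a * n⁻¹ = a ∨ n * a * n⁻¹ = aw a w := by
  have key : ∀ f : G, ∀ N : ℕ, ¬ 24 ∣ N → Nat.card (Subgroup.centralizer ({σ, f} : Set G)) = N →
      ¬ (∀ g : G, g * (n * a * n⁻¹) = (n * a * n⁻¹) * g ↔ g * f = f * g) := by
    intro f N hN hcard hiff
    apply hN
    rw [← hcard]
    let φ : SL2 →* G := (MulAut.conj n).toMonoidHom.comp L
    have hφ : Function.Injective φ := (MulAut.conj n).injective.comp C.L_inj
    have hle : φ.range ≤ Subgroup.centralizer ({σ, f} : Set G) := by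
      rintro _ ⟨x, rfl⟩
      have hX : φ x ∈ cX σ := mul_mem (mul_mem hn (L_mem_X C x)) (inv_mem hn)
      rw [Subgroup.mem_centralizer_iff]
      rintro h (rfl | rfl)
      · exact (mem_cX.1 hX).symm
      · refine ((hiff _).1 ?_).symm
        show n * L x * n⁻¹ * (n * a * n⁻¹) = n * a * n⁻¹ * (n * L x * n⁻¹)
        rw [conj_mul, conj_mul, C.L_cent]
    have := Subgroup.card_dvd_of_le hle
    rwa [← Nat.card_congr (MonoidHom.ofInjective hφ).toEquiv, sl_card] at this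
  have hne : n * a * n⁻¹ ≠ 1 := fun h => C.a_ne (conj_eq_one_iff.1 h)
  obtain ⟨i, j, hij⟩ := mem_E C (hnE a (a_mem C))
  have hd := E_cube C (d_mem C)
  have hc := E_cube C (c_mem C)
  have hcm : Commute a (aw a w) := C.a_comm
  fin_cases i <;> fin_cases j <;> simp only [pow_zero, pow_one, one_mul, mul_one] at hij
  · exact absurd hij hne
  · exact Or.inr hij
  · refine absurd (show w * n * a * (w * n)⁻¹ = a⁻¹ from ?_) (C.not_real (w * n))
    calc w * n * a * (w * n)⁻¹ = w * (n * a * n⁻¹) * w⁻¹ := by group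
      _ = (w * aw a w * w⁻¹) ^ 2 := by rw [hij, conj_pow]
      _ = a⁻¹ := by
        rw [w_inv C, w_aw C, inv_eq_of_mul_eq_one_right
          (show a * a ^ 2 = 1 by rw [← pow_succ', C.a_cube])]
  · exact Or.inl hij
  · exact absurd (fun g => by rw [hij]) (key _ 36 (by norm_num) C.card_c)
  · exact absurd (fun g => by rw [hij, inv_aw C]) (key _ 18 (by norm_num) C.card_d)
  · refine absurd ?_ (C.not_real n)
    rw [hij, inv_eq_of_mul_eq_one_right (show a * a ^ 2 = 1 by rw [← pow_succ', C.a_cube])]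
  · refine absurd (fun g => ?_) (key _ 18 (by norm_num) C.card_d)
    rw [hij, ← commute_sq_iff hd, (Commute.inv_right hcm).mul_pow, inv_pow,
      show (aw a w ^ 2)⁻¹ = aw a w by rw [← inv_aw C, inv_inv]]
  · refine absurd (fun g => ?_) (key _ 36 (by norm_num) C.card_c)
    rw [hij, ← commute_sq_iff hc, hcm.mul_pow]

/-- The normaliser of `E` fixes the product of the generators. -/
theorem norm_pair {n : G} (hn : n ∈ cX σ) (hnE : ∀ e ∈ E C, n * e * n⁻¹ ∈ E C) :
    (n * a * n⁻¹ = a ∧ n * aw a w * n⁻¹ = aw a w) ∨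
      (n * a * n⁻¹ = aw a w ∧ n * aw a w * n⁻¹ = a) := by
  have h1 := norm_gen C hn hnE
  have h2 : n * aw a w * n⁻¹ = a ∨ n * aw a w * n⁻¹ = aw a w := by
    have h3 := norm_gen C (mul_mem hn (w_mem C)) fun e he => by
      rw [show n * w * e * (n * w)⁻¹ = n * (w * e * w⁻¹) * n⁻¹ by group]
      exact hnE _ (w_E C he)
    rwa [show n * w * a * (n * w)⁻¹ = n * (w * a * w⁻¹) * n⁻¹ by group, w_inv C] at h3
  have hne : n * a * n⁻¹ ≠ n * aw a w * n⁻¹ := fun h => by
    have h4 : a = aw a w := mul_left_cancel (mul_right_cancel h)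
    obtain ⟨x, hx, -⟩ := exists_x₀ C
    exact a_notMem C x (hx.trans h4.symm)
  rcases h1 with h1 | h1 <;> rcases h2 with h2 | h2
  · exact absurd (h1.trans h2.symm) hne
  · exact Or.inl ⟨h1, h2⟩
  · exact Or.inr ⟨h1, h2⟩
  · exact absurd (h1.trans h2.symm) hne

end H58.Amalgam43
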