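import Cfsg.Agent.H58.Amalgam43.Kernel
import Cfsg.Agent.S3331
import Cfsg.Agent.H4.SmallOrder.Graph.Simple

/-!
# The centraliser of the central involution: the large normal subgroup of order prime to three
-/

set_option autoImplicit false
set_option linter.unusedSectionVars false

namespace H58.Amalgam43

open H87.U43
open H36.Amalgam43 (CentCfg)

/-- A normaliser of a Sylow subgroup outside a subgroup of index three. -/
theorem exists_norm {Γ : Type*} [Group Γ] [Finite Γ] (N : Subgroup Γ) [N.Normal] (hidx : N.index = 3)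
    {q : ℕ} (hq : q = 5 ∨ q = 7) {j : ℕ} (hN : Nat.card N = 2 ^ j * 3 * q) :
    ∃ Q : Subgroup Γ, Q ≤ N ∧ Nat.card Q = q ∧
      3 ∣ Nat.card ↥(Subgroup.normalizer (Q : Set Γ)) ∧
      (q = 7 → 9 ∣ Nat.card ↥(Subgroup.normalizer (Q : Set Γ))) := by
  classical
  have hqp : q.Prime := by rcases hq with rfl | rfl <;> norm_num
  haveI : Fact q.Prime := ⟨hqp⟩
  haveI : Fact (Nat.Prime 3) := ⟨Nat.prime_three⟩
  have hnd : ¬ q ∣ 2 ^ j * 3 := fun hd => by
    rcases (Nat.Prime.dvd_mul hqp).1 hd with h | h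
    · have := Nat.le_of_dvd two_pos (hqp.dvd_of_dvd_pow h)
      omega
    · have := Nat.le_of_dvd three_pos h
      omega
  let P : Sylow q N := Classical.arbitrary _
  have hP : Nat.card (P : Subgroup N) = q := by
    rw [P.card_eq_multiplicity, hN, Nat.factorization_mul (by positivity) hqp.ne_zero,
      Finsupp.add_apply, Nat.factorization_eq_zero_of_not_dvd hnd, hqp.factorization_self, zero_add,
      pow_one]
  refine ⟨(P : Subgroup N).map N.subtype, Subgroup.map_subtype_le _,
    (Subgroup.card_map_of_injective N.subtype_injective).trans hP, ?_⟩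
  set NQ := Subgroup.normalizer (((P : Subgroup N).map N.subtype : Subgroup Γ) : Set Γ)
  have hsup : NQ ⊔ N = ⊤ := Sylow.normalizer_sup_eq_top P
  have hrel : N.relIndex NQ = 3 := by
    rw [← Subgroup.relIndex_sup_right, hsup, Subgroup.relIndex_top_right, hidx]
  have hsplit : Nat.card NQ = 3 * Nat.card (N.subgroupOf NQ) := by
    rw [← Subgroup.index_mul_card (N.subgroupOf NQ)]
    exact congrArg (· * _) hrel
  refine ⟨⟨_, hsplit⟩, fun h7 => ?_⟩
  subst h7
  -- three divides the normaliser inside `N`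
  have hn : ¬ 3 ∣ Nat.card (Sylow 7 N) := by
    intro h3
    have h1 := card_sylow_modEq_one 7 N
    obtain ⟨t, ht⟩ := h3
    have hdvd : Nat.card (Sylow 7 N) ∣ 2 ^ j * 3 := by
      have h2 : Nat.card (Sylow 7 N) ∣ 2 ^ j * 3 * 7 := by
        rw [← hN, Sylow.card_eq_index_normalizer P]
        exact Subgroup.index_dvd_card _
      refine (Nat.Coprime.dvd_of_dvd_mul_right ?_ h2)
      rw [Nat.Prime.coprime_iff_not_dvd (by norm_num) |> (Nat.coprime_comm.trans ·)]
      intro h
      have h' := h1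
      rw [Nat.ModEq, Nat.mod_eq_zero_of_dvd h] at h'
      norm_num at h'
    rw [ht, mul_comm (2 ^ j)] at hdvd
    obtain ⟨i, -, rfl⟩ := (Nat.dvd_prime_pow Nat.prime_two).1 (Nat.dvd_of_mul_dvd_mul_left three_pos hdvd)
    have : ∀ i : ℕ, 2 ^ i % 7 = 1 ∨ 2 ^ i % 7 = 2 ∨ 2 ^ i % 7 = 4 := by
      intro i
      induction i with
      | zero => simp
      | succ i ih => rw [pow_succ, Nat.mul_mod]; rcases ih with h | h | h <;> rw [h] <;> norm_num
    rw [ht, Nat.ModEq, Nat.mul_mod] at h1
    rcases this i with h | h | h <;> rw [h] at h1 <;> norm_num at h1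
  have h3 : 3 ∣ Nat.card ↥(Subgroup.normalizer (P : Set N)) := by
    have h1 := Subgroup.index_mul_card (Subgroup.normalizer (P : Set N))
    rw [← Sylow.card_eq_index_normalizer P] at h1
    have h2 : 3 ∣ Nat.card N := by rw [hN]; exact ⟨2 ^ j * 7, by ring⟩
    rw [← h1] at h2
    exact (Nat.prime_three.dvd_mul.1 h2).resolve_left hn
  obtain ⟨f, hf⟩ := exists_prime_orderOf_dvd_card' 3 h3
  have hfN : ((f : N) : Γ) ∈ NQ := by
    refine Subgroup.mem_normalizer_iff.2 fun x => ?_
    constructor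
    · rintro ⟨y, hy, rfl⟩
      exact ⟨(f : N) * y * (f : N)⁻¹, (Subgroup.mem_normalizer_iff.1 f.2 y).1 hy, rfl⟩
    · rintro ⟨y, hy, hyx⟩
      refine ⟨(f : N)⁻¹ * y * (f : N), (Subgroup.mem_normalizer_iff.1 f.2 _).2 (by
        rw [show (f : N) * ((f : N)⁻¹ * y * (f : N)) * (f : N)⁻¹ = y by group]; exact hy), ?_⟩
      have hyx' : (y : Γ) = (f : N) * x * ((f : N) : Γ)⁻¹ := hyx
      show ((f : N) : Γ)⁻¹ * y * (f : N) = x
      rw [hyx']
      group
  have hmem : (⟨_, hfN⟩ : NQ) ∈ N.subgroupOf NQ := (f : N).2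
  have h9 := Subgroup.orderOf_dvd_natCard _ hmem
  rw [Subgroup.orderOf_mk, Subgroup.orderOf_coe, Subgroup.orderOf_coe, hf] at h9
  rw [hsplit]
  obtain ⟨t, ht⟩ := h9
  exact ⟨t, by rw [ht]; ring⟩

variable {G : Type*} [Group G] [Finite G] {σ a w : G} {L : SL2 →* G}
variable (C : CentCfg σ a w L)
include C

/-- No subgroup of order five or seven is normalised by too much of `E`. -/
theorem no_five_seven {K : Subgroup G} (hKX : K ≤ cX σ) (hidx : 3 * Nat.card K = Nat.card (cX σ))
    (hKn : ∀ g ∈ cX σ, ∀ x ∈ K, g * x * g⁻¹ ∈ K) {q : ℕ} (hq : q = 5 ∨ q = 7) {j : ℕ}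
    (hK : Nat.card K = 2 ^ j * 3 * q) : False := by
  classical
  have hqp : q.Prime := by rcases hq with rfl | rfl <;> norm_num
  haveI : Fact q.Prime := ⟨hqp⟩
  haveI : Fact (Nat.Prime 3) := ⟨Nat.prime_three⟩
  set N := K.subgroupOf (cX σ) with hNdef
  haveI : N.Normal := ⟨fun x hx g => by
    rw [hNdef, Subgroup.mem_subgroupOf] at hx ⊢
    exact hKn _ g.2 _ hx⟩
  have hNc : Nat.card N = Nat.card K := Nat.card_congr (Subgroup.subgroupOfEquivOfLe hKX).toEquiv
  have hNi : N.index = 3 := by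
    have h1 := Subgroup.index_mul_card N
    rw [hNc, ← hidx] at h1
    exact Nat.eq_of_mul_eq_mul_right Nat.card_pos h1
  obtain ⟨Q, -, hQc, h3, h9⟩ := exists_norm N hNi hq (hNc.trans hK)
  obtain ⟨P, hP⟩ := exists_sylow C
  obtain ⟨y, hy⟩ := exists_prime_orderOf_dvd_card' (G := Q) q (by rw [hQc])
  have hyQ : Subgroup.zpowers (y : cX σ) = Q := by
    refine Subgroup.eq_of_le_of_card_ge (Subgroup.zpowers_le.2 y.2) ?_
    rw [Nat.card_zpowers, Subgroup.orderOf_coe, hy, hQc]
  -- a nontrivial three-subgroup normalising `Q`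
  obtain ⟨T, hTle, hTp, hT1, hT9⟩ : ∃ T : Subgroup (cX σ),
      T ≤ Subgroup.normalizer (Q : Set (cX σ)) ∧ IsPGroup 3 T ∧ T ≠ ⊥ ∧
      (q = 7 → Nat.card T = 9) := by
    rcases hq with rfl | rfl
    · obtain ⟨T, hT⟩ := Sylow.exists_subgroup_card_pow_prime 3 (n := 1) (by simpa using h3)
      refine ⟨T.map (Subgroup.subtype _), Subgroup.map_subtype_le _, (IsPGroup.of_card hT).map _,
        fun h => ?_, fun h => absurd h (by norm_num)⟩
      rw [Subgroup.map_eq_bot_iff_of_injective _ (Subgroup.subtype_injective _)] at h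
      rw [h, Subgroup.card_bot] at hT
      norm_num at hT
    · obtain ⟨T, hT⟩ := Sylow.exists_subgroup_card_pow_prime 3 (n := 2) (by simpa using h9 rfl)
      refine ⟨T.map (Subgroup.subtype _), Subgroup.map_subtype_le _, (IsPGroup.of_card hT).map _,
        fun h => ?_, fun _ => ?_⟩
      · rw [Subgroup.map_eq_bot_iff_of_injective _ (Subgroup.subtype_injective _)] at h
        rw [h, Subgroup.card_bot] at hT
        norm_num at hT
      · rw [Subgroup.card_map_of_injective (Subgroup.subtype_injective _), hT]; norm_num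
  obtain ⟨P', hP'⟩ := hTp.exists_le_sylow
  obtain ⟨g, hg⟩ := MulAction.exists_smul_eq (cX σ) P' P
  -- move it into `E`
  set y' : G := ((g * y * g⁻¹ : cX σ) : G) with hy'
  have hy'q : orderOf y' = q := by
    rw [hy', Subgroup.orderOf_coe, ← hy, ← Subgroup.orderOf_coe y]
    exact orderOf_injective (MulAut.conj g).toMonoidHom (MulAut.conj g).injective _
  have hT' : ∀ t ∈ T, ((g * t * g⁻¹ : cX σ) : G) ∈ E C ∧
      ((g * t * g⁻¹ : cX σ) : G) * y' * ((g * t * g⁻¹ : cX σ) : G)⁻¹ ∈ Subgroup.zpowers y' := by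
    intro t ht
    refine ⟨?_, ?_⟩
    · have h : g * t * g⁻¹ ∈ ((g • P' : Sylow 3 (cX σ)) : Subgroup (cX σ)) := ⟨t, hP' ht, rfl⟩
      rw [hg, hP, Subgroup.mem_subgroupOf] at h
      exact h
    · have h1 := (Subgroup.mem_normalizer_iff.1 (hTle ht) (y : cX σ)).1 y.2
      obtain ⟨z, hz⟩ := Subgroup.mem_zpowers_iff.1 ((SetLike.ext_iff.1 hyQ _).2 h1)
      refine Subgroup.mem_zpowers_iff.2 ⟨z, ?_⟩
      rw [hy', ← Subgroup.coe_zpow, conj_zpow, hz]
      simp only [← Subgroup.coe_inv, ← Subgroup.coe_mul]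
      exact congrArg Subtype.val (by group)
  have hcop : IsPGroup q (Subgroup.zpowers y') := IsPGroup.of_card (n := 1) (by
    rw [Nat.card_zpowers, hy'q, pow_one])
  have hy'X : y' ∈ cX σ := (g * y * g⁻¹ : cX σ).2
  have hy'1 : y' ≠ 1 := fun h => by rw [h, orderOf_one] at hy'q; exact hqp.ne_one hy'q.symm
  have h5 : 5 ≤ q := by rcases hq with rfl | rfl <;> norm_num
  rcases hq with rfl | rfl
  · -- an element of order three centralises a group of order five
    obtain ⟨t, ht, ht1⟩ : ∃ t ∈ T, t ≠ 1 := by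
      by_contra h
      push Not at h
      exact hT1 ((Subgroup.eq_bot_iff_forall _).2 h)
    obtain ⟨he, hconj⟩ := hT' t ht
    set e := ((g * t * g⁻¹ : cX σ) : G) with hedef
    have he1 : e ≠ 1 := fun h => ht1 (by
      have h' : g * t * g⁻¹ = 1 := Subtype.ext h
      exact conj_eq_one_iff.1 h')
    obtain ⟨i, hi⟩ : ∃ i : ℕ, y' ^ i = e * y' * e⁻¹ := by
      rw [← mem_powers_iff_mem_zpowers] at hconj
      exact hconj
    have h3' : y' ^ (i ^ 3) = y' := by
      have hmove : ∀ s : ℕ, e * y' ^ s * e⁻¹ = y' ^ (i * s) := fun s => by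
        rw [← conj_pow, ← hi, ← pow_mul]
      have e3 : e ^ 3 * y' * (e ^ 3)⁻¹ = y' := by
        rw [E_cube C he, one_mul, inv_one, mul_one]
      rw [pow_three, show e * (e * e) * y' * (e * (e * e))⁻¹ = e * (e * (e * y' * e⁻¹) * e⁻¹) * e⁻¹ by
        group, ← hi, hmove, hmove] at e3
      rw [show i ^ 3 = i * (i * i) by ring]
      exact e3
    have hi1 : i % 5 = 1 := by
      have h := (pow_eq_pow_iff_modEq (n := i ^ 3) (m := 1)).1 (by rw [h3', pow_one])
      rw [hy'q, Nat.ModEq, Nat.pow_mod] at h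
      have : i % 5 < 5 := Nat.mod_lt _ (by norm_num)
      interval_cases hi5 : i % 5 <;> simp_all
    refine hy'1 (no_big C hqp h5 he he1 hy'X ?_ (k := 1) (by rw [pow_one, ← hy'q, pow_orderOf_eq_one]))
    have h2 : e * y' * e⁻¹ = y' := by
      rw [← hi]
      conv_rhs => rw [← pow_one y']
      exact pow_eq_pow_iff_modEq.2 (by rw [hy'q]; exact hi1)
    exact (mul_inv_eq_iff_eq_mul.1 h2).symm
  · -- all of `E` normalises a group of order seven
    have hall : ∀ e ∈ E C, e * y' * e⁻¹ ∈ Subgroup.zpowers y' := by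
      intro e he
      set T' := T.map (MulAut.conj g).toMonoidHom with hT'def
      have hT'le : T'.map (cX σ).subtype ≤ E C := by
        rintro _ ⟨_, ⟨t, ht, rfl⟩, rfl⟩
        exact (hT' t ht).1
      have heq : T'.map (cX σ).subtype = E C := Subgroup.eq_of_le_of_card_ge hT'le (by
        rw [card_E C, Subgroup.card_map_of_injective (Subgroup.subtype_injective _), hT'def,
          Subgroup.card_map_of_injective (MulAut.conj g).injective, hT9 rfl])
      obtain ⟨_, ⟨t, ht, rfl⟩, rfl⟩ := heq ▸ he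
      exact (hT' t ht).2
    haveI := E_isMulCommutative C
    have hnorm : E C ≤ Subgroup.normalizer (Subgroup.zpowers y' : Set G) := by
      intro e he
      refine Subgroup.mem_normalizer_iff.2 fun x => ?_
      have hfwd : ∀ f ∈ E C, ∀ z ∈ Subgroup.zpowers y', f * z * f⁻¹ ∈ Subgroup.zpowers y' := by
        intro f hf z hz
        obtain ⟨n, rfl⟩ := Subgroup.mem_zpowers_iff.1 hz
        rw [← conj_zpow]
        exact zpow_mem (hall f hf) n
      refine ⟨hfwd e he x, fun h => ?_⟩
      have := hfwd e⁻¹ (inv_mem he) _ h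
      rwa [inv_inv, show e⁻¹ * (e * x * e⁻¹) * e = x by group] at this
    have hle : Subgroup.zpowers y' ≤ ⊥ := H79.le_of_centralizers_le (p := 3) (fun e he => E_cube C he)
      (E_not_cyclic C) hnorm (by rw [Nat.card_zpowers, hy'q]; norm_num) fun e he he1 x hx => by
        obtain ⟨n, hn⟩ := hcop ⟨x, hx.1⟩
        exact Subgroup.mem_bot.2 (no_big C hqp h5 he he1
          (Subgroup.zpowers_le.2 hy'X hx.1) (Subgroup.mem_centralizer_singleton_iff.1 hx.2)
          (by simpa using congrArg Subtype.val hn))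
    exact hy'1 (Subgroup.mem_bot.1 (hle (Subgroup.mem_zpowers y')))

omit C in
theorem s3_normal {Γ : Type*} [Group Γ] (φ : Γ ≃* Equiv.Perm (Fin 3)) (K : Subgroup Γ) [K.Normal]
    [Finite Γ] (hK : (Nat.card K).Coprime 3) : K = ⊥ := by
  have hfin : ∀ u : Equiv.Perm (Fin 3), u * u = 1 → (∀ v, v * u * v⁻¹ = u) → u = 1 := by decide
  have hc : Nat.card Γ = 6 := by
    rw [Nat.card_congr φ.toEquiv, Nat.card_eq_fintype_card, Fintype.card_perm, Fintype.card_fin]
    rfl
  have h2 : Nat.card K ∣ 2 := hK.dvd_of_dvd_mul_right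
    (show Nat.card K ∣ 2 * 3 by
      have := Subgroup.card_subgroup_dvd_card K; rwa [hc] at this)
  refine (Subgroup.eq_bot_iff_forall _).2 fun x hx => φ.injective ?_
  rw [map_one]
  rcases (Nat.dvd_prime Nat.prime_two).1 h2 with h | h
  · rw [Subgroup.card_eq_one] at h
    rw [h, Subgroup.mem_bot] at hx
    rw [hx, map_one]
  refine hfin _ ?_ fun v => ?_
  · have h' := Subgroup.orderOf_dvd_natCard K hx
    rw [h, orderOf_dvd_iff_pow_eq_one, pow_two] at h'
    rw [← map_mul, h', map_one]
  · by_cases hx1 : x = 1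
    · simp [hx1]
    obtain ⟨v, rfl⟩ := φ.surjective v
    rw [← map_inv, ← map_mul, ← map_mul]
    congr 1
    have hm := ‹K.Normal›.conj_mem x hx v
    by_contra hne
    have hne1 : v * x * v⁻¹ ≠ 1 := fun e => hx1 (conj_eq_one_iff.1 e)
    have hsub : ({1, x, v * x * v⁻¹} : Set Γ) ⊆ K := by
      rintro z (rfl | rfl | rfl)
      exacts [K.one_mem, hx, hm]
    have := Set.ncard_le_ncard hsub (Set.toFinite _)
    rw [Set.ncard_eq_three.2 ⟨1, x, v * x * v⁻¹, Ne.symm hx1, Ne.symm hne1, Ne.symm hne, rfl⟩,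
      ← Nat.card_coe_set_eq] at this
    change 3 ≤ Nat.card K at this
    omega

/-- A normal subgroup of order prime to three and small index in the subgroup of index three. -/
theorem exists_core : ∃ K M : Subgroup G, K ≤ cX σ ∧ 3 * Nat.card K = Nat.card (cX σ) ∧
    (∀ g ∈ cX σ, ∀ n : ℕ, ¬ 3 ∣ n → g ^ n = 1 → g ∈ K) ∧
    M ≤ K ∧ (∀ g ∈ cX σ, ∀ x ∈ M, g * x * g⁻¹ ∈ M) ∧ (Nat.card M).Coprime 3 ∧
    (M.subgroupOf K).index ∣ 6 ∧ σ ∈ M := by
  classical
  haveI : Fact (Nat.Prime 3) := ⟨Nat.prime_three⟩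
  obtain ⟨K, hKX, hidx, hKn, hdK, hcK, hK3⟩ := exists_index_three C
  have hσK : σ ∈ K := hK3 σ (σ_mem C) 2 (by norm_num) (by rw [pow_two, σ_sq C])
  set d := a * (aw a w)⁻¹ with hd
  have hd3 : d ^ 3 = 1 := E_cube C (d_mem C)
  let dK : K := ⟨d, hdK⟩
  let sK : K := ⟨σ, hσK⟩
  set Z := Subgroup.zpowers sK with hZ
  have hsK : ∀ y : K, y * sK = sK * y := fun y => Subtype.ext (mem_cX.1 (hKX y.2))
  have hZmem : ∀ z ∈ Z, z = 1 ∨ z = sK := by
    intro z hz
    have hs2 : sK ^ 2 = 1 := Subtype.ext (by simp [sK, pow_two, σ_sq C])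
    obtain ⟨n, rfl⟩ := Subgroup.mem_zpowers_iff.1 hz
    rcases Int.even_or_odd' n with ⟨m, rfl | rfl⟩
    · left; rw [zpow_mul, zpow_two, ← pow_two, hs2, one_zpow]
    · right; rw [zpow_add, zpow_mul, zpow_two, ← pow_two, hs2, one_zpow, one_mul, zpow_one]
  haveI : Z.Normal := ⟨fun z hz y => by
    rcases hZmem z hz with rfl | rfl
    · simpa using Z.one_mem
    · rw [hsK, mul_inv_cancel_right]; exact hz⟩
  have hZcard : Nat.card Z = 2 := by
    rw [Nat.card_zpowers]
    exact orderOf_eq_prime (Subtype.ext (by simp [sK, pow_two, σ_sq C]))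
      fun h => σ_ne C (congrArg Subtype.val h)
  set Y := K ⧸ Z
  set dY : Y := QuotientGroup.mk dK
  set X₃ := Subgroup.zpowers dY with hX₃
  have hdY1 : dY ≠ 1 := by
    intro h
    have hmem : dK ∈ Z := (QuotientGroup.eq_one_iff _).1 h
    have hd' : d = 1 ∨ d = σ := (hZmem _ hmem).imp (congrArg Subtype.val) (congrArg Subtype.val)
    have h' : d = 1 := by
      rcases hd' with h' | h'
      · exact h'
      · exfalso; rw [h', pow_three, σ_sq C, mul_one] at hd3; exact σ_ne C hd3
    rw [hd, inv_aw C] at h'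
    have := pair_eq_one C (i := 1) (j := 2) (by rwa [pow_one])
    omega
  have hX₃card : Nat.card X₃ = 3 := by
    rw [Nat.card_zpowers]
    refine orderOf_eq_prime ?_ hdY1
    show (QuotientGroup.mk' Z dK) ^ 3 = 1
    rw [← map_pow, show dK ^ 3 = 1 from Subtype.ext (by simpa [dK] using hd3), map_one]
  have hX₃cent : Subgroup.centralizer (X₃ : Set Y) = X₃ := by
    refine le_antisymm (fun y hy => ?_) (fun y hy => Subgroup.mem_centralizer_iff.2 fun z hz => by
      obtain ⟨m, rfl⟩ := Subgroup.mem_zpowers_iff.1 hy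
      obtain ⟨n, rfl⟩ := Subgroup.mem_zpowers_iff.1 hz
      rw [← zpow_add, ← zpow_add, add_comm])
    obtain ⟨k, rfl⟩ := QuotientGroup.mk_surjective y
    have hy' := Subgroup.mem_centralizer_iff.1 hy dY (Subgroup.mem_zpowers dY)
    rw [← QuotientGroup.mk_mul, ← QuotientGroup.mk_mul, QuotientGroup.eq] at hy'
    have hkd : (k : G) * d = d * k := by
      rcases hZmem _ hy' with h | h
      · exact (congrArg Subtype.val (inv_mul_eq_one.1 h)).symm
      · exfalso
        have e : (d * k : G)⁻¹ * (k * d) = σ := congrArg Subtype.val h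
        have e' : (k : G) * d * (k : G)⁻¹ = d * σ := by
          calc (k : G) * d * (k : G)⁻¹ = d * k * ((d * k)⁻¹ * (k * d)) * (k : G)⁻¹ := by group
            _ = d * (k * σ) * (k : G)⁻¹ := by rw [e]; group
            _ = d * σ := by rw [mem_cX.1 (hKX k.2)]; group
        have e3 : (d * σ) ^ 3 = 1 := by rw [← e', conj_pow, hd3, mul_one, mul_inv_cancel]
        rw [(show Commute d σ from σ_comm_E C (d_mem C)).mul_pow, hd3, one_mul, pow_three,
          σ_sq C, mul_one] at e3
        exact σ_ne C e3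
    -- the centraliser of `σ` and `d` is `E × ⟨σ⟩`
    have hkC : (k : G) ∈ Subgroup.centralizer ({σ, d} : Set G) := by
      rw [Subgroup.mem_centralizer_iff]
      rintro h (rfl | rfl)
      · exact (mem_cX.1 (hKX k.2)).symm
      · exact hkd.symm
    have hES : ∃ e ∈ E C, (k : G) = e ∨ (k : G) = σ * e := by
      let S : Set G := {g | ∃ e ∈ E C, g = e ∨ g = σ * e}
      suffices hS : S = (Subgroup.centralizer ({σ, d} : Set G) : Set G) by
        exact (Set.ext_iff.1 hS (k : G)).2 hkC
      refine Set.eq_of_subset_of_ncard_le ?_ ?_ (Set.toFinite _)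
      · rintro g ⟨e, he, rfl | rfl⟩ <;> rw [SetLike.mem_coe, Subgroup.mem_centralizer_iff] <;>
          rintro h (rfl | rfl)
        · exact (σ_comm_E C he).symm
        · exact E_comm C (d_mem C) he
        · rw [mul_assoc, σ_comm_E C he]
        · exact ((show Commute σ d from (σ_comm_E C (d_mem C)).symm).mul_left
            (E_comm C he (d_mem C))).eq.symm
      · rw [← Nat.card_coe_set_eq, hd]
        refine le_of_eq (C.card_d.trans ?_)
        have hS2 : S = (E C : Set G) ∪ (fun e => σ * e) '' (E C : Set G) := by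
          ext g
          simp only [S, Set.mem_ofPred_eq, Set.mem_union, Set.mem_image, SetLike.mem_coe]
          constructor
          · rintro ⟨e, he, rfl | rfl⟩
            · exact Or.inl he
            · exact Or.inr ⟨e, he, rfl⟩
          · rintro (h | ⟨e, he, rfl⟩)
            · exact ⟨g, h, Or.inl rfl⟩
            · exact ⟨e, he, Or.inr rfl⟩
        have hdisj : Disjoint (E C : Set G) ((fun e => σ * e) '' (E C : Set G)) := by
          rw [Set.disjoint_left]
          rintro g hg ⟨e, he, rfl⟩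
          have hσE : σ ∈ E C := by
            have := mul_mem hg (inv_mem he)
            rwa [mul_inv_cancel_right] at this
          have h3 := E_cube C hσE
          rw [pow_three, σ_sq C, mul_one] at h3
          exact σ_ne C h3
        rw [hS2, Set.ncard_union_eq hdisj (Set.toFinite _) (Set.toFinite _),
          Set.ncard_image_of_injective _ (mul_right_injective σ), ← Nat.card_coe_set_eq]
        show 18 = Nat.card (E C) + Nat.card (E C)
        rw [card_E C]
    obtain ⟨e, he, hke⟩ := hES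
    have heK : e ∈ K := by
      rcases hke with h | h
      · exact h ▸ k.2
      · have h' : e = σ * k := by rw [h, ← mul_assoc, σ_sq C, one_mul]
        exact h' ▸ mul_mem hσK k.2
    obtain ⟨i, j, hij⟩ := mem_E C he
    have hcm : Commute a (aw a w) := C.a_comm
    have hei : e = d ^ i.val := by
      have e1 : e = d ^ i.val * aw a w ^ (i.val + j.val) := by
        rw [hd, (Commute.inv_right hcm).mul_pow, inv_pow, pow_add, mul_assoc, inv_mul_cancel_left, hij]
      have hpK : aw a w ^ (i.val + j.val) ∈ K := by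
        have := mul_mem (inv_mem (pow_mem hdK i.val)) heK
        rwa [e1, inv_mul_cancel_left] at this
      by_cases h3 : 3 ∣ i.val + j.val
      · rw [e1, (aw_pow_eq_one C).2 h3, mul_one]
      exfalso
      have hawK : aw a w ∈ K := by
        have h1 := pow_mem hpK (i.val + j.val)
        rw [← pow_mul] at h1
        rwa [← pow_mod_orderOf, show orderOf (aw a w) = 3 from haveI := Fact.mk Nat.prime_three
          orderOf_eq_prime (aw_cube C) (fun h1 => C.a_ne (by rw [← w_aw C, h1, mul_one, C.w_sq])),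
          show (i.val + j.val) * (i.val + j.val) % 3 = 1 by
            rw [Nat.mul_mod]
            rcases (show (i.val + j.val) % 3 = 1 ∨ (i.val + j.val) % 3 = 2 by omega) with h | h <;>
              rw [h], pow_one] at h1
      have haK : a ∈ K := by
        have := hKn w (w_mem C) _ hawK
        rwa [w_inv C, w_aw C] at this
      exact hcK (mul_mem haK hawK)
    refine Subgroup.mem_zpowers_iff.2 ⟨(i.val : ℤ), ?_⟩
    rw [zpow_natCast]
    show (QuotientGroup.mk' Z dK) ^ i.val = (k : Y)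
    rw [← map_pow]
    refine QuotientGroup.eq.2 ?_
    rcases hke with h | h
    · have hk : k = dK ^ i.val := Subtype.ext (by simp [h, hei, dK])
      rw [hk, inv_mul_cancel]; exact Z.one_mem
    · have hk : k = sK * dK ^ i.val := Subtype.ext (by simp [h, hei, dK, sK])
      rw [hk, ← hsK, inv_mul_cancel_left]; exact Subgroup.mem_zpowers sK
  have hKY : Nat.card K = Nat.card Y * 2 := by
    rw [Subgroup.card_eq_card_quotient_mul_card_subgroup Z, hZcard]
  rcases Cfsg.Agent.S3331.result X₃ hX₃card hX₃cent with ⟨N, hN, -, hN3, hYN⟩ |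
      ⟨N, hN, -, hN2, ⟨φ⟩⟩ | ⟨⟨φ⟩⟩
  · set N₁ := N.comap (QuotientGroup.mk' Z) with hN₁
    have hN₁c : Nat.card N₁ = Nat.card N * 2 := by
      let f : N₁ →* N := MonoidHom.mk' (fun x => ⟨QuotientGroup.mk' Z x, x.2⟩) fun x y =>
        Subtype.ext (map_mul _ _ _)
      have hf : Function.Surjective f := by
        rintro ⟨y, hy⟩
        obtain ⟨x, rfl⟩ := QuotientGroup.mk_surjective y
        exact ⟨⟨x, hy⟩, rfl⟩
      have hker : f.ker = Z.subgroupOf N₁ := by
        ext x
        rw [MonoidHom.mem_ker, Subgroup.mem_subgroupOf, ← QuotientGroup.eq_one_iff (N := Z)]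
        exact Subtype.ext_iff
      have hZle : Z ≤ N₁ := fun z hz => by
        rw [hN₁, Subgroup.mem_comap, QuotientGroup.mk'_apply, (QuotientGroup.eq_one_iff z).2 hz]
        exact N.one_mem
      rw [← Subgroup.index_mul_card f.ker, Subgroup.index_ker, f.range_eq_top.2 hf,
        Subgroup.card_top, hker, Nat.card_congr (Subgroup.subgroupOfEquivOfLe hZle).toEquiv, hZcard]
    have hN₁3 : (Nat.card N₁).Coprime 3 := by
      rw [hN₁c]; exact Nat.Coprime.mul_left hN3 (by norm_num)
    set M₀ := Cfsg.pPrimeCore 3 K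
    have hle : N₁ ≤ M₀ := H10.le_pPrimeCore (hN.comap _) hN₁3
    have hidx6 : M₀.index ∣ 6 := by
      refine (Subgroup.index_dvd_of_le hle).trans ?_
      rw [hN₁, Subgroup.index_comap_of_surjective N (QuotientGroup.mk'_surjective Z),
        Subgroup.index_eq_card]
      rcases hYN with h | ⟨⟨φ⟩⟩
      · rw [h]; norm_num
      · rw [Nat.card_congr φ.toEquiv, Nat.card_eq_fintype_card, Fintype.card_perm, Fintype.card_fin]
        rfl
    refine ⟨K, M₀.map K.subtype, hKX, hidx, hK3, Subgroup.map_subtype_le _, ?_, ?_, ?_, ?_⟩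
    · rintro g hg _ ⟨x, hx, rfl⟩
      let e : K ≃* K :=
        { toFun := fun y => ⟨g * y * g⁻¹, hKn g hg _ y.2⟩
          invFun := fun y => ⟨g⁻¹ * y * g⁻¹⁻¹, hKn _ (inv_mem hg) _ y.2⟩
          left_inv := fun y => Subtype.ext (by simp [mul_assoc])
          right_inv := fun y => Subtype.ext (by simp [mul_assoc])
          map_mul' := fun y z => Subtype.ext (by simp) }
      exact ⟨e x, (H10.map_pPrimeCore_equiv e).le ⟨x, hx, rfl⟩, rfl⟩
    · rw [Subgroup.card_map_of_injective K.subtype_injective]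
      exact H10.pPrimeCore_coprime
    · rwa [Subgroup.subgroupOf, Subgroup.comap_map_eq_self_of_injective K.subtype_injective]
    · refine ⟨sK, hle ?_, rfl⟩
      rw [hN₁, Subgroup.mem_comap, QuotientGroup.mk'_apply,
        (QuotientGroup.eq_one_iff sK).2 (Subgroup.mem_zpowers sK)]
      exact N.one_mem
  · exfalso
    haveI : Fact (Nat.Prime 2) := ⟨Nat.prime_two⟩
    obtain ⟨j, hj⟩ := IsPGroup.iff_card.1 (show IsPGroup 2 N from fun x => ⟨1, Subtype.ext (by
      simpa using hN2 x x.2)⟩)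
    have h60 : Nat.card (Y ⧸ N) = 60 := by
      rw [Nat.card_congr φ.toEquiv, Nat.card_eq_fintype_card]; decide
    refine no_five_seven C hKX hidx hKn (Or.inl rfl) (j := j + 3) ?_
    rw [hKY, Subgroup.card_eq_card_quotient_mul_card_subgroup N, h60, hj, pow_add]
    ring
  · exfalso
    haveI : Fact (Nat.Prime 7) := ⟨by norm_num⟩
    refine no_five_seven C hKX hidx hKn (Or.inr rfl) (j := 4) ?_
    rw [hKY, Nat.card_congr φ.toEquiv,
      H4.SmallOrder.Graph.card_psl_two (ZMod 7) (q := 7) (g := 2) (n := 168) (ZMod.card 7) (by decide)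
        (by norm_num) two_pos]
    norm_num

end H58.Amalgam43
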