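import Cfsg.Agent.H87.U43.SL2Facts

/-!
# Facts on `SL(2,3)` with a chosen element of order three
-/

set_option autoImplicit false
set_option maxRecDepth 100000

namespace H58.Amalgam43

open H87.U43

theorem cent_three : ∀ x u : SL2, x ^ 3 = 1 → x ≠ 1 → u * x = x * u →
    ∃ i : Fin 3, u = x ^ i.val ∨ u = sZ * x ^ i.val := by
  refine sl_forall fun a b c d h => sl_forall fun a' b' c' d' h' => ?_
  revert a b c d h a' b' c' d' h'
  decide +kernel

theorem decomp : ∀ x u : SL2, x ^ 3 = 1 → x ≠ 1 →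
    ∃ i : Fin 3, (u * (x ^ i.val)⁻¹) ^ 4 = 1 := by
  refine sl_forall fun a b c d h => sl_forall fun a' b' c' d' h' => ?_
  revert a b c d h a' b' c' d' h'
  decide +kernel

/-- candidates for a commutator argument -/
def q8List : List SL2 := [1, sZ, sJ, sZ * sJ, sI, sZ * sI, sJ * sI, sZ * (sJ * sI)]

theorem q8List_pow : ∀ q ∈ q8List, q ^ 4 = 1 := by decide +kernel

theorem comm_gen : ∀ x r : SL2, x ^ 3 = 1 → x ≠ 1 → r ^ 4 = 1 →
    ∃ s ∈ q8List, r = x * s * x⁻¹ * s⁻¹ ∨ r = sZ * (x * s * x⁻¹ * s⁻¹) := by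
  refine sl_forall fun a b c d h => sl_forall fun a' b' c' d' h' => ?_
  revert a b c d h a' b' c' d' h'
  decide +kernel

theorem q8_card : Nat.card ↥q8 = 8 := by
  rw [Nat.card_congr (Equiv.subtypeEquivRight fun u => (mem_q8 : u ∈ q8 ↔ u ^ 4 = 1)),
    Nat.card_eq_fintype_card]
  decide +kernel

/-- All elements of order four are conjugate. -/
theorem conj_cover {p q : SL2} (hp : p * p = sZ) (hq : q ^ 4 = 1) :
    q = 1 ∨ q = sZ ∨ ∃ k : SL2, k * p * k⁻¹ = q := by
  rcases q8_cases q hq with h | h | h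
  · exact Or.inl h
  · exact Or.inr (Or.inl h)
  · obtain ⟨k, rfl⟩ := order_four p hp
    obtain ⟨k', rfl⟩ := order_four q h
    exact Or.inr (Or.inr ⟨k' * k⁻¹, by group⟩)

theorem pow_card (u : SL2) : u ^ 24 = 1 := by
  rw [← sl_card]
  exact pow_card_eq_one'

end H58.Amalgam43
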