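import Cfsg.Agent.H58.Amalgam43.Basic
import Cfsg.Agent.H5.Burnside
import Cfsg.Agent.H10.Basic
import Cfsg.Agent.H1.CoprimeAction
import Cfsg.Agent.H79.CoprimeGen
import Mathlib.GroupTheory.Transfer

/-!
# The centraliser of the central involution: the normal subgroup of index three
-/

set_option autoImplicit false
set_option linter.unusedSectionVars false

namespace H58.Amalgam43

open H87.U43
open H36.Amalgam43 (CentCfg)

variable {G : Type*} [Group G] [Finite G] {σ a w : G} {L : SL2 →* G}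
variable (C : CentCfg σ a w L)
include C

/-- `E` is a Sylow subgroup of the centraliser. -/
theorem exists_sylow :
    ∃ P : Sylow 3 (cX σ), (P : Subgroup (cX σ)) = (E C).subgroupOf (cX σ) := by
  haveI : Fact (Nat.Prime 3) := ⟨Nat.prime_three⟩
  set E' := (E C).subgroupOf (cX σ) with hE'
  have hp : IsPGroup 3 E' := fun e => ⟨1, by
    apply Subtype.ext
    apply Subtype.ext
    simpa using E_cube C (Subgroup.mem_subgroupOf.1 e.2)⟩
  obtain ⟨P, hP⟩ := hp.exists_le_sylow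
  refine ⟨P, le_antisymm ?_ hP⟩
  by_contra hne
  have hne' : E'.subgroupOf (P : Subgroup (cX σ)) ≠ ⊤ := fun h => hne fun x hx => by
    have : (⟨x, hx⟩ : (P : Subgroup (cX σ))) ∈ E'.subgroupOf (P : Subgroup (cX σ)) :=
      h ▸ Subgroup.mem_top _
    exact this
  haveI : Group.IsNilpotent (P : Subgroup (cX σ)) := P.isPGroup'.isNilpotent
  have hlt := Group.normalizerCondition_of_isNilpotent (E'.subgroupOf (P : Subgroup (cX σ)))
    (lt_top_iff_ne_top.2 hne')
  obtain ⟨n, hn, hnE⟩ := SetLike.exists_of_lt hlt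
  have hnorm : ∀ e ∈ E C, ((n : cX σ) : G) * e * ((n : cX σ) : G)⁻¹ ∈ E C := by
    intro e he
    have hmem : (⟨⟨e, E_le C he⟩, hP (Subgroup.mem_subgroupOf.2 he)⟩ :
        (P : Subgroup (cX σ))) ∈ E'.subgroupOf (P : Subgroup (cX σ)) := by
      rw [Subgroup.mem_subgroupOf, hE', Subgroup.mem_subgroupOf]
      exact he
    exact (Subgroup.mem_normalizer_iff.1 hn _).1 hmem
  obtain ⟨k, hk⟩ := P.isPGroup' n
  set m : G := ((n : cX σ) : G) with hm
  have hmk : m ^ 3 ^ k = 1 := by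
    have := congrArg (fun x : (P : Subgroup (cX σ)) => ((x : cX σ) : G)) hk
    simpa using this
  have hmX : m ∈ cX σ := (n : cX σ).2
  obtain ⟨hma, hmb⟩ : m * a * m⁻¹ = a ∧ m * aw a w * m⁻¹ = aw a w := by
    rcases norm_pair C hmX hnorm with h | ⟨h1, h2⟩
    · exact h
    · exfalso
      have hodd : ∀ i : ℕ, Odd i → m ^ i * a * (m ^ i)⁻¹ = aw a w := by
        rintro i ⟨j, rfl⟩
        induction j with
        | zero => simpa using h1
        | succ j ih =>
          rw [show 2 * (j + 1) + 1 = 2 + (2 * j + 1) by ring, pow_add, pow_two,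
            show m * m * m ^ (2 * j + 1) * a * (m * m * m ^ (2 * j + 1))⁻¹ =
              m * (m * (m ^ (2 * j + 1) * a * (m ^ (2 * j + 1))⁻¹) * m⁻¹) * m⁻¹ by group, ih, h2, h1]
      have := hodd (3 ^ k) (Odd.pow (by decide))
      rw [hmk, one_mul, inv_one, mul_one] at this
      obtain ⟨x, hx, -⟩ := exists_x₀ C
      exact a_notMem C x (hx.trans this.symm)
  obtain ⟨i, x, hix⟩ := C.cent_a m (mem_cX.1 hmX) (mul_inv_eq_iff_eq_mul.1 hma)
  obtain ⟨x₀, hx0, hx3, hx1⟩ := exists_x₀ C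
  have hxx : x * x₀ = x₀ * x := C.L_inj (by
    have e := mul_inv_eq_iff_eq_mul.1 hmb
    have hc : Commute (a ^ i) (L x₀) := (show Commute a (L x₀) from (C.L_cent x₀).symm).pow_left i
    rw [← hx0, hix] at e
    rw [map_mul, map_mul]
    refine mul_left_cancel (a := a ^ i) ?_
    rw [← mul_assoc, e, ← mul_assoc, ← mul_assoc, hc.eq])
  obtain ⟨j, hj | hj⟩ := cent_three x₀ x hx3 hx1 hxx
  · refine hnE ?_
    rw [Subgroup.mem_subgroupOf, hE', Subgroup.mem_subgroupOf]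
    exact ⟨i, j.val, by rw [← hm, hix, hj, map_pow, hx0]⟩
  · have he : a ^ i * aw a w ^ j.val ∈ E C := ⟨i, j.val, rfl⟩
    have hm2 : m = σ * (a ^ i * aw a w ^ j.val) := by
      rw [hix, hj, map_mul, C.L_sZ, map_pow, hx0, ← mul_assoc, ← mul_assoc,
        ((show Commute a σ from a_σ C).pow_left i).eq]
    refine σ_ne C ?_
    rw [hm2, (show Commute σ _ from (σ_comm_E C he).symm).mul_pow] at hmk
    have h2 : (a ^ i * aw a w ^ j.val) ^ 3 ^ k = 1 ∨ k = 0 := by
      rcases k with _ | k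
      · exact Or.inr rfl
      · exact Or.inl (by rw [pow_succ', pow_mul, E_cube C he, one_pow])
    rcases h2 with h2 | rfl
    · obtain ⟨t, ht⟩ : Odd (3 ^ k) := Odd.pow (by decide)
      rwa [h2, mul_one, ht, pow_succ, pow_mul, pow_two, σ_sq C, one_pow, one_mul] at hmk
    · simp only [pow_zero, pow_one] at hmk
      rw [eq_inv_of_mul_eq_one_left hmk]
      have h3 := E_cube C (inv_mem he)
      rw [← eq_inv_of_mul_eq_one_left hmk] at h3 ⊢
      rwa [pow_three, σ_sq C, mul_one] at h3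

/-- The kernel of a character of order three. -/
theorem index_three_of_hom {A : Type*} [CommGroup A] (τ : cX σ →* A) (hA : Nat.card A = 3)
    (hτc : τ ⟨a * aw a w, E_le C (c_mem C)⟩ ≠ 1) :
    ∃ K : Subgroup G, K ≤ cX σ ∧ 3 * Nat.card K = Nat.card (cX σ) ∧
    (∀ g ∈ cX σ, ∀ x ∈ K, g * x * g⁻¹ ∈ K) ∧ a * (aw a w)⁻¹ ∈ K ∧ a * aw a w ∉ K ∧
    ∀ g ∈ cX σ, ∀ n : ℕ, ¬ 3 ∣ n → g ^ n = 1 → g ∈ K := by
  haveI : Fact (Nat.Prime 3) := ⟨Nat.prime_three⟩
  set c' : cX σ := ⟨a * aw a w, E_le C (c_mem C)⟩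
  have hsurj : τ.range = ⊤ := by
    haveI : Fact (Nat.card A).Prime := ⟨hA.symm ▸ Nat.prime_three⟩
    refine (τ.range.eq_bot_or_eq_top_of_prime_card).resolve_left fun h => hτc ?_
    exact Subgroup.mem_bot.1 (h ▸ ⟨c', rfl⟩)
  refine ⟨τ.ker.map (cX σ).subtype, Subgroup.map_subtype_le _, ?_, ?_, ?_, ?_, ?_⟩
  · rw [Subgroup.card_map_of_injective (cX σ).subtype_injective, ← Subgroup.index_mul_card τ.ker,
      Subgroup.index_ker, hsurj, Subgroup.card_top, hA]
  · rintro g hg _ ⟨x, hx, rfl⟩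
    exact ⟨⟨g, hg⟩ * x * ⟨g, hg⟩⁻¹, τ.normal_ker.conj_mem _ hx _, rfl⟩
  · refine ⟨⟨a, E_le C (a_mem C)⟩ * ⟨w, w_mem C⟩ * (⟨a, E_le C (a_mem C)⟩ : cX σ)⁻¹ *
      (⟨w, w_mem C⟩ : cX σ)⁻¹, ?_, ?_⟩
    · show τ _ = 1
      rw [map_mul, map_mul, map_mul, map_inv, map_inv]
      exact mul_inv_eq_one.2 (mul_inv_eq_iff_eq_mul.2 (mul_comm _ _))
    · show a * w * a⁻¹ * w⁻¹ = a * (w * a * w)⁻¹
      rw [mul_inv_rev, mul_inv_rev, w_inv C]
      group
  · rintro ⟨x, hx, hxc⟩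
    refine hτc ?_
    rwa [show c' = x from Subtype.ext hxc.symm]
  · intro g hg n hn hgn
    refine ⟨⟨g, hg⟩, ?_, rfl⟩
    show τ ⟨g, hg⟩ = 1
    refine orderOf_eq_one_iff.1 (Nat.eq_one_of_dvd_coprimes
      ((Nat.prime_three.coprime_iff_not_dvd).2 hn) (hA ▸ orderOf_dvd_natCard _)
      (orderOf_dvd_of_pow_eq_one ?_))
    rw [← map_pow, show (⟨g, hg⟩ : cX σ) ^ n = 1 from Subtype.ext hgn, map_one]


/-- The normal subgroup of index three. -/
theorem exists_index_three : ∃ K : Subgroup G, K ≤ cX σ ∧ 3 * Nat.card K = Nat.card (cX σ) ∧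
    (∀ g ∈ cX σ, ∀ x ∈ K, g * x * g⁻¹ ∈ K) ∧ a * (aw a w)⁻¹ ∈ K ∧ a * aw a w ∉ K ∧
    ∀ g ∈ cX σ, ∀ n : ℕ, ¬ 3 ∣ n → g ^ n = 1 → g ∈ K := by
  classical
  haveI : Fact (Nat.Prime 3) := ⟨Nat.prime_three⟩
  obtain ⟨P, hP⟩ := exists_sylow C
  have hmemP : ∀ x : cX σ, x ∈ (P : Subgroup (cX σ)) ↔ (x : G) ∈ E C := fun x => by
    rw [hP, Subgroup.mem_subgroupOf]
  letI : CommGroup (P : Subgroup (cX σ)) :=
    { (inferInstance : Group (P : Subgroup (cX σ))) with
      mul_comm := fun x y => Subtype.ext (Subtype.ext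
        (E_comm C ((hmemP _).1 x.2) ((hmemP _).1 y.2))) }
  let d' : (P : Subgroup (cX σ)) := ⟨⟨a * (aw a w)⁻¹, E_le C (d_mem C)⟩, (hmemP _).2 (d_mem C)⟩
  let A := (P : Subgroup (cX σ)) ⧸ Subgroup.zpowers d'
  let φ : (P : Subgroup (cX σ)) →* A := QuotientGroup.mk' (Subgroup.zpowers d')
  set τ := MonoidHom.transfer φ
  let c' : cX σ := ⟨a * aw a w, E_le C (c_mem C)⟩
  have hfix : ∀ i : ℕ, ∀ g : cX σ, g⁻¹ * c' ^ i * g ∈ (P : Subgroup (cX σ)) →
      g⁻¹ * c' ^ i * g = c' ^ i := by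
    intro i g hg
    have hcent : ∀ x ∈ (P : Subgroup (cX σ)),
        x ∈ Subgroup.centralizer ((P : Subgroup (cX σ)) : Set (cX σ)) := fun x hx y hy =>
      Subtype.ext (E_comm C ((hmemP _).1 hy) ((hmemP _).1 hx))
    obtain ⟨n, hn, hn'⟩ := H5.burnside_fusion_elem P
      (hcent _ ((hmemP (c' ^ i)).2 (by simpa [c'] using pow_mem (c_mem C) i))) (hcent _ hg)
      (g := g⁻¹) (by rw [inv_inv])
    rw [← hn']
    have hnorm : ∀ e ∈ E C, (n : G) * e * (n : G)⁻¹ ∈ E C := fun e he => by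
      have := (Subgroup.mem_normalizer_iff.1 hn ⟨e, E_le C he⟩).1 ((hmemP _).2 he)
      exact (hmemP _).1 this
    have hc : (n : G) * (a * aw a w) * (n : G)⁻¹ = a * aw a w := by
      rcases norm_pair C n.2 hnorm with ⟨h1, h2⟩ | ⟨h1, h2⟩
      · rw [← conj_mul, h1, h2]
      · rw [← conj_mul, h1, h2]; exact C.a_comm.symm
    apply Subtype.ext
    simp only [Subgroup.coe_mul, Subgroup.coe_inv, SubgroupClass.coe_pow, c']
    rw [← conj_pow, hc]
  have hidx : ¬ 3 ∣ (P : Subgroup (cX σ)).index := P.not_dvd_index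
  have hτc : τ c' ≠ 1 := by
    rw [MonoidHom.transfer_eq_pow φ c' hfix, QuotientGroup.mk'_apply, Ne, QuotientGroup.eq_one_iff]
    intro hmem
    obtain ⟨z, hz⟩ := Subgroup.mem_zpowers_iff.1 hmem
    have hz' := congrArg (fun x : (P : Subgroup (cX σ)) => ((x : cX σ) : G)) hz
    simp only [SubgroupClass.coe_zpow, SubgroupClass.coe_pow, d', c'] at hz'
    set N := (P : Subgroup (cX σ)).index
    obtain ⟨t, ht⟩ : ∃ t : ℕ, (a * (aw a w)⁻¹) ^ z = (a * (aw a w)⁻¹) ^ t := by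
      have : (a * (aw a w)⁻¹) ^ z ∈ Submonoid.powers (a * (aw a w)⁻¹) := by
        rw [mem_powers_iff_mem_zpowers]
        exact ⟨z, rfl⟩
      obtain ⟨t, ht⟩ := this
      exact ⟨t, ht.symm⟩
    have hcm : Commute a (aw a w) := C.a_comm
    rw [ht, (Commute.inv_right hcm).mul_pow, hcm.mul_pow, inv_aw C, ← pow_mul] at hz'
    have e := congrArg (fun g => g * (a ^ (2 * N) * aw a w ^ (2 * N))) hz'
    simp only [pair_mul C] at e
    rw [show N + 2 * N = 3 * N by ring, pow_mul a, pow_mul (aw a w), C.a_cube, aw_cube C, one_pow,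
      mul_one] at e
    obtain ⟨h1, h2⟩ := pair_eq_one C e
    omega
  have hA : Nat.card A = 3 := by
    have h1 := Subgroup.card_eq_card_quotient_mul_card_subgroup (Subgroup.zpowers d')
    have h2 : Nat.card (P : Subgroup (cX σ)) = 9 := by
      rw [hP, Nat.card_congr (Subgroup.subgroupOfEquivOfLe (E_le C)).toEquiv, card_E C]
    have h3 : orderOf d' = 3 := orderOf_eq_prime (Subtype.ext (Subtype.ext (by
        simpa [d'] using E_cube C (d_mem C)))) fun h => by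
      have h' := congrArg (fun x : (P : Subgroup (cX σ)) => ((x : cX σ) : G)) h
      simp only [d', Subgroup.coe_one, inv_aw C] at h'
      have := pair_eq_one C (i := 1) (j := 2) (by rwa [pow_one])
      omega
    rw [h2, Nat.card_zpowers, h3] at h1
    show Nat.card ((P : Subgroup (cX σ)) ⧸ Subgroup.zpowers d') = 3
    omega
  exact index_three_of_hom C τ hA hτc

end H58.Amalgam43
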