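import Cfsg.Agent.H58.Amalgam43.Core
import Cfsg.Agent.H87.PSp43.Defs

/-!
# The centraliser of the central involution is `(SL(2,3) ∘ SL(2,3)).2`
-/

set_option autoImplicit false
set_option linter.unusedSectionVars false

namespace H58.Amalgam43

open H87.U43
open H36.Amalgam43 (CentCfg)

variable {G : Type*} [Group G] [Finite G] {σ a w : G} {L : SL2 →* G}
variable (C : CentCfg σ a w L)
include C

theorem a_twist {x : SL2} (hx : L x = aw a w) : w * L x * w = a := by rw [hx, w_aw C]

theorem twist_mul (g h : G) : w * (g * h) * w = w * g * w * (w * h * w) := by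
  rw [show w * g * w * (w * h * w) = w * g * (w * w) * h * w by group, C.w_sq, mul_one]
  group

theorem twist_twist (g : G) : w * (w * g * w) * w = g := by
  rw [show w * (w * g * w) * w = w * w * g * (w * w) by group, C.w_sq, one_mul, mul_one]

theorem twist_σ : w * σ * w = σ := by rw [C.w_σ, mul_assoc, C.w_sq, mul_one]

variable {M : Subgroup G} (hMX : M ≤ cX σ) (hMn : ∀ g ∈ cX σ, ∀ x ∈ M, g * x * g⁻¹ ∈ M)
  (hM2 : IsPGroup 2 M) (hσM : σ ∈ M)

include hMn in
theorem twist_mem {g : G} (hg : g ∈ M) : w * g * w ∈ M := by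
  have := hMn w (w_mem C) g hg
  rwa [w_inv C] at this

include hMn hM2 in
/-- `M` meets `E` trivially. -/
theorem inter_E {e : G} (he : e ∈ E C) (heM : e ∈ M) : e = 1 := by
  obtain ⟨k, hk⟩ := hM2 ⟨e, heM⟩
  have hk' : e ^ 2 ^ k = 1 := by simpa using congrArg Subtype.val hk
  exact orderOf_eq_one_iff.1 (Nat.eq_one_of_dvd_coprimes (Nat.Coprime.pow_right k (by norm_num))
    (orderOf_dvd_of_pow_eq_one (E_cube C he)) (orderOf_dvd_of_pow_eq_one hk'))

include hMX hMn hM2 hσM in
/-- Centralisers in a normal two-subgroup. -/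
theorem fixed_cases {e g : G} (he : e ∈ E C) (he1 : e ≠ 1) (hg : g ∈ M) (hge : g * e = e * g) :
    (∃ x : SL2, x ^ 4 = 1 ∧ g = L x) ∨ (∃ x : SL2, x ^ 4 = 1 ∧ g = w * L x * w) ∨
      g = 1 ∨ g = σ := by
  obtain ⟨f, hf, hiff⟩ := E_cases C he he1
  rw [hiff] at hge
  obtain ⟨k, hk⟩ := hM2 ⟨g, hg⟩
  have hk' : g ^ 2 ^ k = 1 := by simpa using congrArg Subtype.val hk
  have hσ1 := σ_ne C
  rcases hf with rfl | rfl | rfl | rfl
  · exact Or.inl (two_elt C (hMX hg) hge hk')
  · obtain ⟨x, hx, hgx⟩ := two_elt C (hMX (twist_mem C hMn hg)) (w_comm_a C hge) (k := k)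
      (by nth_rw 2 [← w_inv C]; rw [conj_pow, hk', mul_one, mul_inv_cancel])
    exact Or.inr (Or.inl ⟨x, hx, by rw [← hgx, twist_twist C]⟩)
  · right; right
    set S := M ⊓ Subgroup.centralizer ({σ, a * (aw a w)⁻¹} : Set G)
    have hS : Nat.card S ∣ 2 := by
      obtain ⟨n, hn⟩ := hM2.exists_card_eq
      have h1 : Nat.card S ∣ 2 ^ n := hn ▸ Subgroup.card_dvd_of_le inf_le_left
      have h2 : Nat.card S ∣ 2 * 9 := by
        have := Subgroup.card_dvd_of_le (inf_le_right : S ≤ _)
        rwa [C.card_d] at this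
      exact (Nat.Coprime.coprime_dvd_left h1 (Nat.Coprime.pow_left n (by norm_num))).dvd_of_dvd_mul_right h2
    have hmem : ∀ h ∈ M, h * (a * (aw a w)⁻¹) = a * (aw a w)⁻¹ * h → h ∈ S := by
      intro h hh hhd
      refine ⟨hh, Subgroup.mem_centralizer_iff.2 ?_⟩
      rintro y (rfl | rfl)
      · exact (mem_cX.1 (hMX hh)).symm
      · exact hhd.symm
    by_contra hne
    push Not at hne
    have hsub : ({1, σ, g} : Set G) ⊆ S := by
      rintro z (rfl | rfl | rfl)
      exacts [S.one_mem, hmem _ hσM (σ_comm_E C (d_mem C)).symm, hmem _ hg hge]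
    have h3 := Set.ncard_le_ncard hsub (Set.toFinite _)
    rw [Set.ncard_eq_three.2 ⟨1, σ, g, hσ1.symm, hne.1.symm, hne.2.symm, rfl⟩,
      ← Nat.card_coe_set_eq] at h3
    change 3 ≤ Nat.card S at h3
    have := Nat.le_of_dvd two_pos hS
    omega
  · right; right
    set S := M ⊓ Subgroup.centralizer ({σ, a * aw a w} : Set G)
    have hS : Nat.card S ∣ 4 := by
      obtain ⟨n, hn⟩ := hM2.exists_card_eq
      have h1 : Nat.card S ∣ 2 ^ n := hn ▸ Subgroup.card_dvd_of_le inf_le_left
      have h2 : Nat.card S ∣ 4 * 9 := by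
        have := Subgroup.card_dvd_of_le (inf_le_right : S ≤ _)
        rwa [C.card_c] at this
      exact (Nat.Coprime.coprime_dvd_left h1 (Nat.Coprime.pow_left n (by norm_num))).dvd_of_dvd_mul_right h2
    have hmem : ∀ h ∈ M, h * (a * aw a w) = a * aw a w * h → h ∈ S := by
      intro h hh hhd
      refine ⟨hh, Subgroup.mem_centralizer_iff.2 ?_⟩
      rintro y (rfl | rfl)
      · exact (mem_cX.1 (hMX hh)).symm
      · exact hhd.symm
    by_contra hne
    push Not at hne
    have hσS : σ ∈ S := hmem σ hσM (σ_comm_E C (c_mem C)).symm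
    have hgS : g ∈ S := hmem g hg hge
    have hgσ : g * σ ≠ 1 := fun h => hne.2 (by
      rw [eq_inv_of_mul_eq_one_left h, inv_eq_of_mul_eq_one_left (σ_sq C)])
    have hset : ({1, σ, g, g * σ} : Set G) = (S : Set G) := by
      refine Set.eq_of_subset_of_ncard_le ?_ ?_ (Set.toFinite _)
      · rintro z (rfl | rfl | rfl | rfl)
        exacts [S.one_mem, hσS, hgS, S.mul_mem hgS hσS]
      · rw [← Nat.card_coe_set_eq]
        refine (Nat.le_of_dvd (by norm_num) hS).trans (le_of_eq ?_)
        rw [Set.ncard_insert_of_notMem (by simp [hσ1.symm, hne.1.symm, Ne.symm hgσ]),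
          Set.ncard_insert_of_notMem (by simp [hne.2.symm, hne.1]),
          Set.ncard_pair (by simpa using hσ1)]
    -- conjugation by elements of `E` fixes `g`
    have hfix : ∀ f ∈ E C, g * f = f * g := by
      intro f hf
      have hfg : f * g * f⁻¹ ∈ (S : Set G) := by
        refine ⟨hMn f (E_le C hf) g hg, Subgroup.mem_centralizer_iff.2 ?_⟩
        have hfX := E_le C hf
        rintro y (rfl | rfl)
        · exact (mem_cX.1 (mul_mem (mul_mem hfX (hMX hg)) (inv_mem hfX))).symm
        · have e1 : f * (a * aw a w) * f⁻¹ = a * aw a w := by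
            rw [E_comm C hf (c_mem C), mul_inv_cancel_right]
          conv_lhs => rw [← e1, conj_mul, ← hge]
          rw [← conj_mul, e1]
      rw [← hset] at hfg
      rcases hfg with h | h | h | h
      · exact absurd (conj_eq_one_iff.1 h) hne.1
      · refine absurd ?_ hne.2
        have h' : g = f⁻¹ * (σ * f) := by rw [← h]; group
        rw [h', ← σ_comm_E C hf, inv_mul_cancel_left]
      · exact (mul_inv_eq_iff_eq_mul.1 h).symm
      · exfalso
        have hfs : f * σ * f⁻¹ = σ := by rw [σ_comm_E C hf, mul_inv_cancel_right]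
        have h1 : ∀ n : ℕ, f ^ n * g * (f ^ n)⁻¹ = g * σ ^ n := by
          intro n
          induction n with
          | zero => simp
          | succ n ih =>
            rw [pow_succ', show f * f ^ n * g * (f * f ^ n)⁻¹ = f * (f ^ n * g * (f ^ n)⁻¹) * f⁻¹ by
              group, ih, ← conj_mul, h, ← conj_pow, hfs, pow_succ', mul_assoc]
        have h2 := h1 3
        rw [E_cube C hf, one_mul, inv_one, mul_one, left_eq_mul, pow_three, σ_sq C,
          mul_one] at h2
        exact hσ1 h2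
    obtain ⟨i, x, hgx⟩ := C.cent_a g (mem_cX.1 (hMX hg)) (hfix a (a_mem C))
    obtain ⟨y, hy, hgy⟩ := two_elt C (hMX hg) (hfix a (a_mem C)) hk'
    obtain ⟨x₀, hx0, hx3, hx1⟩ := exists_x₀ C
    have hyx : y * x₀ = x₀ * y := C.L_inj (by
      rw [map_mul, map_mul, hx0, ← hgy, hfix _ (aw_mem C)])
    obtain ⟨t, ht | ht⟩ := cent_three x₀ y hx3 hx1 hyx
    · refine hne.1 (inter_E C hMn hM2 ?_ hg)
      exact ⟨0, t.val, by rw [pow_zero, one_mul, hgy, ht, map_pow, hx0]⟩
    · have hh : σ * g ∈ E C ∧ σ * g ∈ M := by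
        refine ⟨⟨0, t.val, ?_⟩, M.mul_mem hσM hg⟩
        rw [pow_zero, one_mul, hgy, ht, map_mul, C.L_sZ, map_pow, hx0, ← mul_assoc, σ_sq C, one_mul]
      exact hne.2 (by
        rw [eq_inv_of_mul_eq_one_right (inter_E C hMn hM2 hh.1 hh.2),
          inv_eq_of_mul_eq_one_left (σ_sq C)])

omit hMX hMn hM2 hσM

/-- The core is a two-group containing both quaternion groups. -/
theorem exists_two_core : ∃ M : Subgroup G, M ≤ cX σ ∧
    (∀ g ∈ cX σ, ∀ x ∈ M, g * x * g⁻¹ ∈ M) ∧ IsPGroup 2 M ∧ σ ∈ M ∧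
    Nat.card (cX σ) ≤ 18 * Nat.card M ∧ ∀ q : SL2, q ^ 4 = 1 → L q ∈ M := by
  classical
  haveI : Fact (Nat.Prime 3) := ⟨Nat.prime_three⟩
  haveI := E_isMulCommutative C
  obtain ⟨K, M, hKX, hidx, hK3, hMK, hMn, hM3, hi6, hσM⟩ := exists_core C
  have hMX : M ≤ cX σ := hMK.trans hKX
  have hnorm : E C ≤ Subgroup.normalizer (M : Set G) := fun e he =>
    Subgroup.mem_normalizer_iff.2 fun x => ⟨hMn e (E_le C he) x, fun h => by
      have := hMn e⁻¹ (inv_mem (E_le C he)) _ h
      rwa [inv_inv, show e⁻¹ * (e * x * e⁻¹) * e = x by group] at this⟩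
  have hM2 : IsPGroup 2 M := by
    refine IsPGroup.of_card (n := (Nat.card M).primeFactorsList.length)
      (Nat.eq_prime_pow_of_unique_prime_dvd Nat.card_pos.ne' fun {q} hq hqM => ?_)
    by_contra hq2
    haveI : Fact q.Prime := ⟨hq⟩
    have hq3 : q ≠ 3 := fun h => by
      subst h
      exact Nat.prime_three.ne_one (Nat.eq_one_of_dvd_coprimes hM3 hqM dvd_rfl)
    have hq5 : 5 ≤ q := by
      have h2 := hq.two_le
      rcases Nat.lt_or_ge q 5 with h | h
      · interval_cases q <;> norm_num at *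
      · exact h
    have hcop : (Nat.card (E C)).Coprime (Nat.card M) := by
      rw [card_E C, show 9 = 3 ^ 2 by norm_num]
      exact (Nat.Coprime.pow_right 2 hM3).symm
    obtain ⟨P, hP⟩ := H1.exists_invariant_sylow hnorm hcop
      (Or.inl (Group.isSolvable_of_comm fun u v => mul_comm' u v)) q
    have hPq : IsPGroup q ((P : Subgroup M).map M.subtype) := P.isPGroup'.map _
    have hle : (P : Subgroup M).map M.subtype ≤ ⊥ :=
      H79.le_of_centralizers_le (p := 3) (fun e he => E_cube C he) (E_not_cyclic C) hP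
        (hM3.coprime_dvd_left (Subgroup.card_dvd_of_le (Subgroup.map_subtype_le _)))
        fun e he he1 x hx => by
          obtain ⟨n, hn⟩ := hPq ⟨x, hx.1⟩
          exact Subgroup.mem_bot.2 (no_big C hq hq5 he he1
            (hMX (Subgroup.map_subtype_le _ hx.1)) (Subgroup.mem_centralizer_singleton_iff.1 hx.2)
            (by simpa using congrArg Subtype.val hn))
    rw [le_bot_iff, Subgroup.map_eq_bot_iff_of_injective _ M.subtype_injective] at hle
    exact P.ne_bot_of_dvd_card hqM hle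
  set M' := M.subgroupOf K with hM'
  haveI : M'.Normal := ⟨fun x hx g => by
    rw [hM', Subgroup.mem_subgroupOf] at hx ⊢
    exact hMn _ (hKX g.2) _ hx⟩
  have hM'c : Nat.card M' = Nat.card M :=
    Nat.card_congr (Subgroup.subgroupOfEquivOfLe hMK).toEquiv
  have hle18 : Nat.card (cX σ) ≤ 18 * Nat.card M := by
    rw [← hidx, ← Subgroup.index_mul_card M', hM'c]
    have := Nat.mul_le_mul_right (Nat.card M) (Nat.le_of_dvd (by norm_num) hi6)
    omega
  refine ⟨M, hMX, hMn, hM2, hσM, hle18, ?_⟩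
  have hmem : ∀ q ∈ q8, L q ∈ K := fun q hq => hK3 _ (L_mem_X C q) 4 (by norm_num) (by
    rw [← map_pow, mem_q8.1 hq, map_one])
  let ψ : q8 →* K ⧸ M' := (QuotientGroup.mk' M').comp
    (MonoidHom.mk' (fun q => ⟨L q, hmem q q.2⟩) fun x y => Subtype.ext (map_mul L _ _))
  have hr : Nat.card ψ.range ∣ 2 := by
    have h1 : Nat.card ψ.range ∣ 8 := q8_card ▸ Subgroup.card_range_dvd ψ
    have h2 : Nat.card ψ.range ∣ 6 :=
      (Subgroup.card_subgroup_dvd_card _).trans (Subgroup.index_eq_card M' ▸ hi6)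
    simpa using Nat.dvd_gcd h1 h2
  have hker : 4 ≤ Nat.card ψ.ker := by
    have h1 := Subgroup.index_mul_card ψ.ker
    rw [Subgroup.index_ker, q8_card] at h1
    have := Nat.le_of_dvd two_pos hr
    nlinarith
  obtain ⟨p, hpk, hp⟩ : ∃ p : SL2, p ^ 4 = 1 ∧ p ≠ 1 ∧ p ≠ sZ ∧ L p ∈ M := by
    by_contra hno
    push Not at hno
    have hsub : (Subtype.val '' (ψ.ker : Set q8)) ⊆ ({1, sZ} : Set SL2) := by
      rintro _ ⟨q, hq, rfl⟩
      by_contra hq'
      simp only [Set.mem_insert_iff, Set.mem_singleton_iff, not_or] at hq'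
      refine hno q (mem_q8.1 q.2) hq'.1 hq'.2 ?_
      have h' : (⟨L q, hmem q q.2⟩ : K) ∈ M' := (QuotientGroup.eq_one_iff _).1 hq
      exact Subgroup.mem_subgroupOf.1 h'
    have := Set.ncard_le_ncard hsub (Set.toFinite _)
    rw [Set.ncard_image_of_injective _ Subtype.val_injective, ← Nat.card_coe_set_eq,
      Set.ncard_pair sZ_facts.2.1.symm] at this
    change Nat.card ψ.ker ≤ 2 at this
    omega
  intro q hq
  have hp2 : p * p = sZ := ((q8_cases p hpk).resolve_left hp.1).resolve_left hp.2.1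
  rcases conj_cover hp2 hq with rfl | rfl | ⟨k, rfl⟩
  · rw [map_one]; exact M.one_mem
  · rw [C.L_sZ]; exact hσM
  · rw [map_mul, map_mul, map_inv]
    exact hMn _ (L_mem_X C k) _ hp.2.2

/-- The two quaternion groups commute. -/
theorem quat_comm {p r : SL2} (hp : p ^ 4 = 1) (hr : r ^ 4 = 1) :
    L p * (w * L r * w) = w * L r * w * L p := by
  classical
  haveI : Fact (Nat.Prime 3) := ⟨Nat.prime_three⟩
  haveI : Fact (Nat.Prime 2) := ⟨Nat.prime_two⟩
  haveI := E_isMulCommutative C
  obtain ⟨M, hMX, hMn, hM2, hσM, -, hQ⟩ := exists_two_core C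
  have hσc : ∀ m ∈ M, Commute σ m := fun m hm => (mem_cX.1 (hMX hm)).symm
  -- the second centre
  let U : Subgroup G :=
    { carrier := {u | u ∈ M ∧ ∀ m ∈ M, u * m = m * u ∨ u * m = σ * (m * u)}
      one_mem' := ⟨M.one_mem, fun m _ => Or.inl (by simp)⟩
      mul_mem' := by
        rintro u v ⟨hu, hu'⟩ ⟨hv, hv'⟩
        refine ⟨M.mul_mem hu hv, fun m hm => ?_⟩
        have hsu := (hσc u hu).eq
        rcases hv' m hm with h | h <;> rcases hu' m hm with h' | h'
        · left; rw [mul_assoc, h, ← mul_assoc, h', mul_assoc]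
        · right; rw [mul_assoc, h, ← mul_assoc, h']; group
        · right
          calc u * v * m = u * (σ * (m * v)) := by rw [mul_assoc, h]
            _ = σ * (u * m * v) := by rw [← mul_assoc, ← hsu]; group
            _ = σ * (m * (u * v)) := by rw [h']; group
        · left
          calc u * v * m = u * (σ * (m * v)) := by rw [mul_assoc, h]
            _ = σ * (u * m * v) := by rw [← mul_assoc, ← hsu]; group
            _ = σ * σ * (m * (u * v)) := by rw [h']; group
            _ = m * (u * v) := by rw [σ_sq C, one_mul]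
      inv_mem' := by
        rintro u ⟨hu, hu'⟩
        refine ⟨M.inv_mem hu, fun m hm => ?_⟩
        rcases hu' m hm with h | h
        · left; exact (show Commute u m from h).inv_left.eq
        · right
          have hs : u * σ = σ * u := (hσc u hu).eq.symm
          calc u⁻¹ * m = u⁻¹ * (m * u) * u⁻¹ := by group
            _ = u⁻¹ * (σ * σ * (m * u)) * u⁻¹ := by rw [σ_sq C, one_mul]
            _ = u⁻¹ * (σ * (u * m)) * u⁻¹ := by rw [h]; group
            _ = u⁻¹ * (σ * u) * (m * u⁻¹) := by group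
            _ = σ * (m * u⁻¹) := by rw [← hs, inv_mul_cancel_left] }
  have hUM : U ≤ M := fun u hu => hu.1
  have hUn : ∀ g ∈ cX σ, ∀ u ∈ U, g * u * g⁻¹ ∈ U := by
    rintro g hg u ⟨hu, hu'⟩
    refine ⟨hMn g hg u hu, fun m hm => ?_⟩
    have hm' : g⁻¹ * m * g ∈ M := by
      have := hMn g⁻¹ (inv_mem hg) m hm
      rwa [inv_inv] at this
    have hgs : g * σ * g⁻¹ = σ := by rw [mem_cX.1 hg, mul_inv_cancel_right]
    rcases hu' _ hm' with h | h
    · left
      calc g * u * g⁻¹ * m = g * (u * (g⁻¹ * m * g)) * g⁻¹ := by group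
        _ = m * (g * u * g⁻¹) := by rw [h]; group
    · right
      calc g * u * g⁻¹ * m = g * (u * (g⁻¹ * m * g)) * g⁻¹ := by group
        _ = g * σ * g⁻¹ * (m * (g * u * g⁻¹)) := by rw [h]; group
        _ = σ * (m * (g * u * g⁻¹)) := by rw [hgs]
  have hnormU : E C ≤ Subgroup.normalizer (U : Set G) := fun e he =>
    Subgroup.mem_normalizer_iff.2 fun x => ⟨hUn e (E_le C he) x, fun h => by
      have := hUn e⁻¹ (inv_mem (E_le C he)) _ h
      rwa [inv_inv, show e⁻¹ * (e * x * e⁻¹) * e = x by group] at this⟩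
  have hJ4 : sJ ^ 4 = 1 := by
    rw [show (4 : ℕ) = 2 * 2 by norm_num, pow_mul, pow_two sJ, aut_rel.2.1, pow_two, sZ_facts.1]
  have hZle : Subgroup.zpowers σ ≤ M := Subgroup.zpowers_le.2 hσM
  have hZ2 : ∀ z ∈ Subgroup.zpowers σ, z = 1 ∨ z = σ := by
    intro z hz
    obtain ⟨n, rfl⟩ := Subgroup.mem_zpowers_iff.1 hz
    rcases Int.even_or_odd' n with ⟨m, rfl | rfl⟩
    · left; rw [zpow_mul, zpow_two, σ_sq C, one_zpow]
    · right; rw [zpow_add, zpow_mul, zpow_two, σ_sq C, one_zpow, one_mul, zpow_one]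
  set Z := (Subgroup.zpowers σ).subgroupOf M
  haveI : Z.Normal := ⟨fun z hz g => by
    rw [Subgroup.mem_subgroupOf] at hz ⊢
    rw [Subgroup.coe_mul, Subgroup.coe_mul, Subgroup.coe_inv]
    rcases hZ2 _ hz with h | h <;> rw [h]
    · simp
    · rw [← (hσc g g.2).eq, mul_inv_cancel_right]; exact Subgroup.mem_zpowers σ⟩
  haveI : Nontrivial (M ⧸ Z) := by
    refine ⟨⟨QuotientGroup.mk ⟨L sJ, hQ sJ hJ4⟩, 1, fun h => ?_⟩⟩
    rw [QuotientGroup.eq_one_iff, Subgroup.mem_subgroupOf] at h
    rcases hZ2 _ h with h | h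
    · have : sJ = 1 := C.L_inj (by rw [map_one]; exact h)
      revert this; decide +kernel
    · have : sJ = sZ := C.L_inj (by rw [C.L_sZ]; exact h)
      revert this; decide +kernel
  haveI := (hM2.to_quotient Z).center_nontrivial
  obtain ⟨u, huZ, hu1⟩ : ∃ u : M ⧸ Z, u ∈ Subgroup.center (M ⧸ Z) ∧ u ≠ 1 := by
    obtain ⟨u, hu⟩ := exists_ne (1 : Subgroup.center (M ⧸ Z))
    exact ⟨u, u.2, fun h => hu (Subtype.ext h)⟩
  obtain ⟨u₀, rfl⟩ := QuotientGroup.mk_surjective u
  have hu₀ : (u₀ : G) ∈ U := by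
    refine ⟨u₀.2, fun m hm => ?_⟩
    have h := Subgroup.mem_center_iff.1 huZ (QuotientGroup.mk ⟨m, hm⟩)
    rw [← QuotientGroup.mk_mul, ← QuotientGroup.mk_mul, QuotientGroup.eq,
      Subgroup.mem_subgroupOf] at h
    rcases hZ2 _ h with h' | h'
    · left
      exact (inv_mul_eq_one.1 (by simpa using h')).symm
    · right
      have e : ((⟨m, hm⟩ * u₀ : M) : G)⁻¹ * ((u₀ * ⟨m, hm⟩ : M) : G) = σ := by simpa using h'
      rw [inv_mul_eq_iff_eq_mul] at e
      rw [show (u₀ : G) * m = m * u₀ * σ from e, (hσc (m * u₀) (M.mul_mem hm u₀.2)).eq]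
  -- some element of order four of the quaternion group lies in it
  obtain ⟨q₀, hq₀, hq₀U⟩ : ∃ q : SL2, q * q = sZ ∧ L q ∈ U := by
    by_contra hno
    push Not at hno
    have hall : ∀ x : SL2, x ^ 4 = 1 → L x ∈ U → L x = 1 ∨ L x = σ := fun x hx hxU => by
      rcases q8_cases x hx with rfl | rfl | h
      · exact Or.inl (map_one L)
      · exact Or.inr C.L_sZ
      · exact absurd hxU (hno x h)
    have hle : U ≤ Subgroup.zpowers σ := H79.le_of_centralizers_le (p := 3)
      (fun e he => E_cube C he) (E_not_cyclic C) hnormU (by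
        obtain ⟨n, hn⟩ := hM2.exists_card_eq
        exact Nat.Coprime.coprime_dvd_left (Subgroup.card_dvd_of_le hUM)
          (hn ▸ Nat.Coprime.pow_left n (by norm_num)))
      fun e he he1 x hx => by
        have hxe := Subgroup.mem_centralizer_singleton_iff.1 hx.2
        have hxU : x ∈ U := hx.1
        rcases fixed_cases C hMX hMn hM2 hσM he he1 (hUM hxU) hxe with
          ⟨y, hy, rfl⟩ | ⟨y, hy, rfl⟩ | rfl | rfl
        · rcases hall y hy hxU with h | h <;> rw [h]
          exacts [Subgroup.one_mem _, Subgroup.mem_zpowers σ]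
        · have h' := hUn w (w_mem C) _ hxU
          rw [w_inv C, twist_twist C] at h'
          rcases hall y hy h' with h | h <;> rw [h]
          · rw [mul_one, C.w_sq]; exact Subgroup.one_mem _
          · rw [twist_σ C]; exact Subgroup.mem_zpowers σ
        · exact Subgroup.one_mem _
        · exact Subgroup.mem_zpowers _
    exact hu1 ((QuotientGroup.eq_one_iff u₀).2 (Subgroup.mem_subgroupOf.2 (hle hu₀)))
  have hLU : ∀ q : SL2, q ^ 4 = 1 → L q ∈ U := by
    intro q hq
    rcases conj_cover hq₀ hq with rfl | rfl | ⟨k, rfl⟩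
    · rw [map_one]; exact U.one_mem
    · rw [C.L_sZ]
      exact ⟨hσM, fun m hm => Or.inl (hσc m hm).eq⟩
    · rw [map_mul, map_mul, map_inv]
      exact hUn _ (L_mem_X C k) _ hq₀U
  obtain ⟨x₀, hx0, hx3, hx1⟩ := exists_x₀ C
  obtain ⟨s, hs, hrs⟩ := comm_gen x₀ r hx3 hx1 hr
  set u := w * L s * w with hu
  have huM : u ∈ M := twist_mem C hMn (hQ s (q8List_pow s hs))
  -- a commutator of the second group is centralised
  have hc : Commute (L p) (a * u * a⁻¹ * u⁻¹) := by
    have hLa : Commute (L p) a := C.L_cent p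
    rcases (hLU p hp).2 u huM with h | h
    · exact ((hLa.mul_right h).mul_right hLa.inv_right).mul_right (show Commute (L p) u from h).inv_right
    · have h1 : L p * u * (L p)⁻¹ = σ * u := by rw [h, ← mul_assoc, mul_inv_cancel_right]
      have h2 : L p * a * (L p)⁻¹ = a := by rw [hLa.eq, mul_inv_cancel_right]
      have hsu : σ * u = u * σ := (hσc u huM).eq
      refine mul_inv_eq_iff_eq_mul.1 (show L p * (a * u * a⁻¹ * u⁻¹) * (L p)⁻¹ = _ from ?_)
      rw [← conj_mul, ← conj_mul, ← conj_mul, ← conj_inv, ← conj_inv, h1, h2]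
      rw [show a * (σ * u) * a⁻¹ * (σ * u)⁻¹ = a * σ * (u * a⁻¹ * u⁻¹) * σ⁻¹ by group,
        show a * u * a⁻¹ * u⁻¹ = a * (u * a⁻¹ * u⁻¹) by group]
      have hcs : Commute σ (u * a⁻¹ * u⁻¹) :=
        ((show Commute σ u from hsu).mul_right (show Commute σ a from (a_σ C).symm).inv_right).mul_right
          (show Commute σ u from hsu).inv_right
      rw [mul_assoc a σ, hcs.eq, mul_assoc, mul_assoc (u * a⁻¹ * u⁻¹), mul_inv_cancel, mul_one]
  have he : w * L (x₀ * s * x₀⁻¹ * s⁻¹) * w = a * u * a⁻¹ * u⁻¹ := by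
    rw [map_mul, map_mul, map_mul, twist_mul C, twist_mul C, twist_mul C, a_twist C hx0]
    have hinv : ∀ g : G, w * g⁻¹ * w = (w * g * w)⁻¹ := fun g => by
      rw [mul_inv_rev, mul_inv_rev, w_inv C, mul_assoc]
    rw [map_inv, map_inv, hinv, hinv, a_twist C hx0]
  rcases hrs with rfl | rfl
  · rw [he]; exact hc.eq
  · rw [map_mul, C.L_sZ, twist_mul C, twist_σ C, he]
    exact ((show Commute (L p) σ from L_σ C p).mul_right hc).eq

/-- All of the first factor commutes with the second. -/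
theorem factors_comm (x y : SL2) : L x * (w * L y * w) = w * L y * w * L x := by
  obtain ⟨x₀, hx0, hx3, hx1⟩ := exists_x₀ C
  obtain ⟨i, hi⟩ := decomp x₀ x hx3 hx1
  obtain ⟨j, hj⟩ := decomp x₀ y hx3 hx1
  set p := x * (x₀ ^ i.val)⁻¹
  set r := y * (x₀ ^ j.val)⁻¹
  have hx : x = p * x₀ ^ i.val := (inv_mul_cancel_right _ _).symm
  have hy : y = r * x₀ ^ j.val := (inv_mul_cancel_right _ _).symm
  have h1 : ∀ z, Commute (L z) a := fun z => C.L_cent z
  have h2 : ∀ z, Commute (aw a w) (w * L z * w) := fun z => (L_w_comm C z).symm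
  have h3 : Commute (L p) (w * L r * w) := quat_comm C hi hj
  have hj' : w * L (x₀ ^ j.val) * w = a ^ j.val := by
    have htp : ∀ (g : G) (n : ℕ), w * g ^ n * w = (w * g * w) ^ n := fun g n => by
      induction n with
      | zero => simp [C.w_sq]
      | succ n ih => rw [pow_succ, twist_mul C, ih, pow_succ]
    rw [map_pow, hx0, htp, w_aw C]
  have key : Commute (L x) (w * L y * w) := by
    rw [hy, map_mul, twist_mul C, hj']
    refine Commute.mul_right ?_ ((h1 x).pow_right _)
    rw [hx, map_mul, map_pow, hx0]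
    exact h3.mul_left ((h2 r).pow_left _)
  exact key.eq

/-- The centraliser of the central involution. -/
theorem exists_raw : ∃ mu, H87.PSp43.Raw σ mu w := by
  classical
  obtain ⟨x₀, hx0, hx3, hx1⟩ := exists_x₀ C
  let mu : SL2 × SL2 →* G := MonoidHom.mk' (fun k => L k.1 * (w * L k.2 * w)) fun k l => by
    simp only [Prod.fst_mul, Prod.snd_mul, map_mul, twist_mul C]
    rw [show L k.1 * L l.1 * (w * L k.2 * w * (w * L l.2 * w)) =
      L k.1 * (L l.1 * (w * L k.2 * w)) * (w * L l.2 * w) by group, factors_comm C]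
    group
  have hmu : ∀ u v : SL2, mu (u, v) = L u * (w * L v * w) := fun _ _ => rfl
  have hker : ∀ k : SL2 × SL2, mu k = 1 ↔ k = 1 ∨ k = (sZ, sZ) := by
    rintro ⟨u, v⟩
    rw [hmu]
    constructor
    · intro h
      have hcomm : ∀ z : SL2, u * z = z * u := fun z => C.L_inj (by
        rw [map_mul, map_mul, eq_inv_of_mul_eq_one_left h]
        exact ((show Commute (L z) (w * L v * w) from factors_comm C z v).inv_right.eq).symm)
      rcases sl_center u (hcomm sX) (hcomm sJ) with rfl | rfl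
      · rw [map_one, one_mul] at h
        have hv : v = 1 := C.L_inj (by
          rw [← twist_twist C (L v), h, mul_one, C.w_sq, map_one])
        exact Or.inl (by rw [hv]; rfl)
      · rw [C.L_sZ] at h
        have h' : w * L v * w = σ := by
          rw [eq_inv_of_mul_eq_one_right h]; exact inv_eq_of_mul_eq_one_left (σ_sq C)
        have hv : v = sZ := C.L_inj (by rw [← twist_twist C (L v), h', twist_σ C, C.L_sZ])
        exact Or.inr (by rw [hv])
    · rintro (h | h) <;> obtain ⟨rfl, rfl⟩ := Prod.ext_iff.1 h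
      · simp [C.w_sq]
      · simp only [C.L_sZ, twist_σ C, σ_sq C]
  have hswap : ∀ u v : SL2, w * mu (u, v) * w⁻¹ = mu (v, u) := fun u v => by
    rw [w_inv C, hmu, hmu, twist_mul C, twist_twist C]
    exact (factors_comm C v u).symm
  have hnot : w ∉ mu.range := by
    rintro ⟨⟨u, v⟩, huv⟩
    rw [hmu] at huv
    have h1 : w * a * w⁻¹ = w * L (v * x₀ * v⁻¹) * w := by
      conv_lhs => rw [← huv, ← a_twist C hx0]
      have h2 : w * L v * w * (w * L x₀ * w) * (w * L v * w)⁻¹ = w * L (v * x₀ * v⁻¹) * w := by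
        rw [map_mul, map_mul, map_inv, twist_mul C, twist_mul C, mul_inv_rev, mul_inv_rev,
          w_inv C, mul_assoc w]
        simp only [mul_assoc]
      have h3 : Commute (L u) (w * L (v * x₀ * v⁻¹) * w) := factors_comm C u _
      calc L u * (w * L v * w) * (w * L x₀ * w) * (L u * (w * L v * w))⁻¹
          = L u * (w * L v * w * (w * L x₀ * w) * (w * L v * w)⁻¹) * (L u)⁻¹ := by group
        _ = _ := by rw [h2, h3.eq, mul_inv_cancel_right]
    rw [w_inv C] at h1
    exact a_notMem C (v * x₀ * v⁻¹) (by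
      have h2 := congrArg (fun g => w * g * w) h1
      simp only [twist_twist C] at h2
      exact h2.symm)
  refine ⟨mu, hker, ?_, σ_ne C, C.w_sq, hswap, hnot, fun g => ?_⟩
  · rw [hmu, map_one, mul_one, C.L_sZ, C.w_sq, mul_one]
  -- the centraliser is exhausted
  let R : Subgroup G :=
    { carrier := {g | ∃ x : H87.PSp43.PEl, g = H87.PSp43.pEv mu w x}
      one_mem' := ⟨((1, 1), false), by simp [H87.PSp43.pEv, Prod.mk_one_one]⟩
      mul_mem' := by
        rintro _ _ ⟨⟨⟨u, v⟩, b⟩, rfl⟩ ⟨⟨⟨u', v'⟩, b'⟩, rfl⟩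
        have hs : ∀ p q, w * mu (p, q) = mu (q, p) * w := fun p q => by
          rw [← hswap p q, inv_mul_cancel_right]
        cases b
        · refine ⟨((u * u', v * v'), b'), ?_⟩
          simp only [H87.PSp43.pEv, cond_false, mul_one, ← mul_assoc, ← map_mul, Prod.mk_mul_mk]
        · refine ⟨((u * v', v * u'), !b'), ?_⟩
          simp only [H87.PSp43.pEv, cond_true]
          rw [show mu (u, v) * w * (mu (u', v') * bif b' then w else 1) =
            mu (u, v) * (w * mu (u', v')) * bif b' then w else 1 by group, hs]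
          cases b' <;> simp only [cond_true, cond_false, Bool.not_true, Bool.not_false, mul_one,
            mul_assoc, C.w_sq] <;> simp only [← mul_assoc, ← map_mul, Prod.mk_mul_mk]
      inv_mem' := by
        rintro _ ⟨⟨⟨u, v⟩, b⟩, rfl⟩
        cases b
        · exact ⟨((u⁻¹, v⁻¹), false), by
            simp only [H87.PSp43.pEv, cond_false, mul_one, ← map_inv, Prod.inv_mk]⟩
        · refine ⟨((v⁻¹, u⁻¹), true), ?_⟩
          simp only [H87.PSp43.pEv, cond_true, mul_inv_rev, ← map_inv, Prod.inv_mk, w_inv C]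
          rw [← hswap, w_inv C, ← mul_assoc, ← mul_assoc, C.w_sq, one_mul] }
  have hRX : R ≤ cX σ := by
    rintro _ ⟨⟨⟨u, v⟩, b⟩, rfl⟩
    refine mul_mem ?_ ?_
    · rw [hmu]
      exact mul_mem (L_mem_X C u) (mul_mem (mul_mem (w_mem C) (L_mem_X C v)) (w_mem C))
    · cases b
      exacts [one_mem _, w_mem C]
  have hR : R = cX σ := by
    haveI : Fact (Nat.Prime 3) := ⟨Nat.prime_three⟩
    haveI := E_isMulCommutative C
    obtain ⟨M, hMX, hMn, hM2, hσM, hcard, hQ⟩ := exists_two_core C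
    have hLR : ∀ u, L u ∈ R := fun u => ⟨((u, 1), false), by
      simp only [H87.PSp43.pEv, cond_false, mul_one, hmu, map_one, C.w_sq]⟩
    have hWR : w ∈ R := ⟨((1, 1), true), by simp [H87.PSp43.pEv, Prod.mk_one_one]⟩
    have hER : E C ≤ R := by
      rintro _ ⟨i, j, rfl⟩
      refine R.mul_mem (R.pow_mem ?_ i) (R.pow_mem ?_ j)
      · rw [← a_twist C hx0]
        exact R.mul_mem (R.mul_mem hWR (hLR x₀)) hWR
      · rw [← hx0]; exact hLR x₀
    have hMR : M ≤ R := by
      have hnorm : E C ≤ Subgroup.normalizer (M : Set G) := fun e he =>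
        Subgroup.mem_normalizer_iff.2 fun x => ⟨hMn e (E_le C he) x, fun h => by
          have := hMn e⁻¹ (inv_mem (E_le C he)) _ h
          rwa [inv_inv, show e⁻¹ * (e * x * e⁻¹) * e = x by group] at this⟩
      refine H79.le_of_centralizers_le (p := 3) (fun e he => E_cube C he) (E_not_cyclic C) hnorm
        (by obtain ⟨n, hn⟩ := hM2.exists_card_eq; exact hn ▸ Nat.Coprime.pow_left n (by norm_num))
        fun e he he1 x hx => ?_
      rcases fixed_cases C hMX hMn hM2 hσM he he1 hx.1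
        (Subgroup.mem_centralizer_singleton_iff.1 hx.2) with ⟨y, -, rfl⟩ | ⟨y, -, rfl⟩ | rfl | rfl
      · exact hLR y
      · exact R.mul_mem (R.mul_mem hWR (hLR y)) hWR
      · exact R.one_mem
      · exact C.L_sZ ▸ hLR sZ
    have hwEM : ∀ e ∈ E C, ∀ m ∈ M, e * m ≠ w := by
      intro e he m hm heq
      set d := a * (aw a w)⁻¹
      have h1 : w * d * w⁻¹ = d⁻¹ := by
        rw [← conj_mul, ← conj_inv, w_inv C, w_aw C, mul_inv_rev, inv_inv]
      have h2 : m * d * m⁻¹ = d⁻¹ := by
        have hm' : m = e⁻¹ * w := by rw [← heq, inv_mul_cancel_left]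
        rw [hm', show e⁻¹ * w * d * (e⁻¹ * w)⁻¹ = e⁻¹ * (w * d * w⁻¹) * e by group, h1,
          ← E_comm C (inv_mem (d_mem C)) (inv_mem he), inv_mul_cancel_right]
      have h3 : m * d * m⁻¹ * d⁻¹ = 1 := by
        refine inter_E C hMn hM2 ?_ ?_
        · rw [h2]; exact mul_mem (inv_mem (d_mem C)) (inv_mem (d_mem C))
        · rw [show m * d * m⁻¹ * d⁻¹ = m * (d * m⁻¹ * d⁻¹) by group]
          exact M.mul_mem hm (hMn d (E_le C (d_mem C)) _ (M.inv_mem hm))
      rw [h2, ← mul_inv_rev, inv_eq_one] at h3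
      have h4 := E_cube C (d_mem C)
      rw [pow_three, h3, mul_one] at h4
      have h5 : a ^ 1 * aw a w ^ 2 = 1 := by rw [pow_one, ← inv_aw C]; exact h4
      have := pair_eq_one C h5
      omega
    let f : (E C × M) × Bool → R := fun z =>
      ⟨(z.1.1 : G) * z.1.2 * bif z.2 then w else 1,
        R.mul_mem (R.mul_mem (hER z.1.1.2) (hMR z.1.2.2)) (by cases z.2; exacts [R.one_mem, hWR])⟩
    have hfinj : Function.Injective f := by
      have hEM : ∀ e ∈ E C, ∀ e' ∈ E C, ∀ m ∈ M, ∀ m' ∈ M, e * m = e' * m' → e = e' ∧ m = m' := by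
        intro e he e' he' m hm m' hm' h
        have h1 : e'⁻¹ * e = m' * m⁻¹ := by
          rw [eq_mul_inv_iff_mul_eq, mul_assoc, h, inv_mul_cancel_left]
        have h2 : e'⁻¹ * e = 1 := inter_E C hMn hM2 (mul_mem (inv_mem he') he)
          (h1 ▸ M.mul_mem hm' (M.inv_mem hm))
        have h3 : e = e' := (inv_mul_eq_one.1 h2).symm
        exact ⟨h3, mul_left_cancel (h3 ▸ h)⟩
      have hmix : ∀ e ∈ E C, ∀ e' ∈ E C, ∀ m ∈ M, ∀ m' ∈ M, e * m * w ≠ e' * m' := by
        intro e he e' he' m hm m' hm' h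
        refine hwEM (e⁻¹ * e') (mul_mem (inv_mem he) he') ((e⁻¹ * e')⁻¹ * m⁻¹ * (e⁻¹ * e') * m')
          (M.mul_mem ?_ hm') ?_
        · have := hMn (e⁻¹ * e')⁻¹ (inv_mem (mul_mem (inv_mem (E_le C he)) (E_le C he'))) _
            (M.inv_mem hm)
          rwa [inv_inv] at this
        · calc e⁻¹ * e' * ((e⁻¹ * e')⁻¹ * m⁻¹ * (e⁻¹ * e') * m') = m⁻¹ * e⁻¹ * (e' * m') := by group
            _ = w := by rw [← h]; group
      rintro ⟨⟨⟨e, he⟩, ⟨m, hm⟩⟩, b⟩ ⟨⟨⟨e', he'⟩, ⟨m', hm'⟩⟩, b'⟩ h
      have h' := congrArg Subtype.val h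
      cases b <;> cases b' <;> simp only [f, cond_true, cond_false, mul_one] at h'
      · obtain ⟨rfl, rfl⟩ := hEM e he e' he' m hm m' hm' h'; rfl
      · exact absurd h'.symm (hmix e' he' e he m' hm' m hm)
      · exact absurd h' (hmix e he e' he' m hm m' hm')
      · obtain ⟨rfl, rfl⟩ := hEM e he e' he' m hm m' hm' (mul_right_cancel h'); rfl
    refine Subgroup.eq_of_le_of_card_ge hRX (hcard.trans ?_)
    have := Nat.card_le_card_of_injective f hfinj
    rw [Nat.card_prod, Nat.card_prod, card_E C, Nat.card_eq_fintype_card (α := Bool),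
      Fintype.card_bool] at this
    omega
  rw [← mem_cX, ← hR]
  rfl

end H58.Amalgam43
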